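import Cfsg.Agent.Lib.Block.DefiningChar.Count
import Cfsg.Agent.Lib.Fusion.ClassicalCharP.LinearSetup

/-!
# `SL_n` in defining characteristic: radical subgroups, the big cell, the triple sum
-/

open Finset MonoidAlgebra Matrix

set_option autoImplicit false
set_option linter.unusedSectionVars false

namespace CfsgLib.Block.DefiningChar.SL

open CfsgLib.Block CfsgLib.Block.DefiningChar
open CfsgLib.AutPSL (unitri mem_unitri tv tv_val rk1)
open CfsgLib.FusionCharP.Linear (el el_val)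

variable {n : ℕ} {F : Type*} [Field F] [Fintype F]

local notation "SLn" => Matrix.SpecialLinearGroup (Fin n) F

/-! ### Radical subgroups -/

theorem vecMulVec_mulVec' (v f y : Fin n → F) : vecMulVec v f *ᵥ y = (f ⬝ᵥ y) • v := by
  funext a
  simp only [Matrix.mulVec, dotProduct, Matrix.vecMulVec_apply, Pi.smul_apply, smul_eq_mul,
    Finset.sum_mul]
  exact Finset.sum_congr rfl fun b _ => by ring

theorem tv_mulVec (v f y : Fin n → F) (h : f ⬝ᵥ v = 0) :
    (tv v f h).1 *ᵥ y = y + (f ⬝ᵥ y) • v := by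
  rw [tv_val, rk1, Matrix.add_mulVec, Matrix.one_mulVec, vecMulVec_mulVec']

theorem mul_mulVec' (g h : SLn) (y : Fin n → F) : (g * h).1 *ᵥ y = g.1 *ᵥ (h.1 *ᵥ y) := by
  rw [Matrix.SpecialLinearGroup.coe_mul, Matrix.mulVec_mulVec]

theorem inv_mulVec_mulVec (g : SLn) (y : Fin n → F) : (g⁻¹).1 *ᵥ (g.1 *ᵥ y) = y := by
  rw [← mul_mulVec', inv_mul_cancel, Matrix.SpecialLinearGroup.coe_one, Matrix.one_mulVec]

theorem mulVec_inv_mulVec (g : SLn) (y : Fin n → F) : g.1 *ᵥ ((g⁻¹).1 *ᵥ y) = y := by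
  rw [← mul_mulVec', mul_inv_cancel, Matrix.SpecialLinearGroup.coe_one, Matrix.one_mulVec]

/-- The vectors fixed by a subgroup. -/
def fixedSpace (D : Subgroup SLn) : Submodule F (Fin n → F) where
  carrier := {v | ∀ d ∈ D, d.1 *ᵥ v = v}
  zero_mem' := fun d _ => Matrix.mulVec_zero _
  add_mem' := fun {a b} ha hb d hd => by rw [Matrix.mulVec_add, ha d hd, hb d hd]
  smul_mem' := fun c a ha d hd => by rw [Matrix.mulVec_smul, ha d hd]

/-- The elements trivial on a subspace and on the quotient by it. -/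
def flagUni (W : Submodule F (Fin n → F)) : Subgroup SLn where
  carrier := {g | (∀ v ∈ W, g.1 *ᵥ v = v) ∧ ∀ v, g.1 *ᵥ v - v ∈ W}
  one_mem' := ⟨fun v _ => by simp, fun v => by simp⟩
  mul_mem' := fun {a b} ha hb => ⟨fun v hv => by rw [mul_mulVec', hb.1 v hv, ha.1 v hv], fun v => by
    rw [mul_mulVec', show a.1 *ᵥ (b.1 *ᵥ v) - v = (a.1 *ᵥ (b.1 *ᵥ v) - b.1 *ᵥ v) + (b.1 *ᵥ v - v) by
      abel]
    exact W.add_mem (ha.2 _) (hb.2 v)⟩
  inv_mem' := fun {a} ha => ⟨fun v hv => by
      conv_lhs => rw [← ha.1 v hv]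
      exact inv_mulVec_mulVec a v,
    fun v => by
      have h := W.neg_mem (ha.2 ((a⁻¹).1 *ᵥ v))
      rwa [mulVec_inv_mulVec, neg_sub] at h⟩

variable {p : ℕ} [Fact p.Prime] [CharP F p]

theorem isPGroup_flagUni [NeZero n] (W : Submodule F (Fin n → F)) :
    IsPGroup p (flagUni (n := n) (F := F) W) := by
  rintro ⟨g, hg1, hg2⟩
  refine ⟨1, Subtype.ext (Subtype.ext ?_)⟩
  haveI : CharP (Matrix (Fin n) (Fin n) F) p := Matrix.charP p
  have hN : (g.1 - 1) ^ 2 = 0 := by
    refine Matrix.ext_of_mulVec_single fun i => ?_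
    rw [pow_two, ← Matrix.mulVec_mulVec, Matrix.sub_mulVec g.1 1 ((g.1 - 1) *ᵥ _),
      Matrix.one_mulVec, Matrix.sub_mulVec g.1 1 (Pi.single i 1), Matrix.one_mulVec,
      hg1 _ (hg2 _), sub_self, Matrix.zero_mulVec]
  have h4 : (g.1 - 1) ^ p = 0 := pow_eq_zero_of_le (Fact.out (p := p.Prime)).two_le hN
  rw [sub_pow_char_of_commute (p := p) (Commute.one_right _), one_pow, sub_eq_zero] at h4
  simpa using h4

/-- The radical property of `SL_n` in defining characteristic. -/
theorem radicalCentral (hn : 2 ≤ n) : RadicalCentral p SLn := by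
  classical
  have : NeZero n := ⟨by omega⟩
  intro D hD hne
  set W := fixedSpace D
  have hW0 : W ≠ ⊥ := by
    letI : MulAction D (Fin n → F) :=
      { smul := fun d v => (d : SLn).1 *ᵥ v
        one_smul := fun v => Matrix.one_mulVec v
        mul_smul := fun d d' v => mul_mulVec' (d : SLn) (d' : SLn) v }
    have hdvd : p ∣ Nat.card (Fin n → F) := by
      obtain ⟨f, -, hf⟩ := FiniteField.card F p
      rw [Nat.card_eq_fintype_card, Fintype.card_fun, hf, ← pow_mul, Fintype.card_fin]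
      exact dvd_pow_self p (Nat.mul_pos f.pos (by omega)).ne'
    obtain ⟨v, hv, hv0⟩ := hD.exists_fixed_point_of_prime_dvd_card_of_fixed_point (Fin n → F) hdvd
      (a := (0 : Fin n → F)) (fun d => Matrix.mulVec_zero _)
    exact fun h => hv0 ((Submodule.mem_bot F).1 (h ▸ (fun d hd => hv ⟨d, hd⟩ : v ∈ W))).symm
  have hWtop : W ≠ ⊤ := by
    intro h
    refine hne ((Subgroup.eq_bot_iff_forall D).2 fun d hd => Subtype.ext ?_)
    refine Matrix.ext_of_mulVec_single fun i => ?_
    rw [Matrix.SpecialLinearGroup.coe_one, Matrix.one_mulVec]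
    exact (h ▸ Submodule.mem_top : (Pi.single i (1 : F) : Fin n → F) ∈ W) d hd
  have hDN : D ≤ Subgroup.normalizer (flagUni W : Set SLn) := by
    have key : ∀ d ∈ D, ∀ u ∈ flagUni W, d * u * d⁻¹ ∈ flagUni W := by
      intro d hd u hu
      refine ⟨fun v hv => ?_, fun v => ?_⟩
      · rw [mul_mulVec', mul_mulVec', hv d⁻¹ (inv_mem hd), hu.1 v hv, hv d hd]
      · rw [mul_mulVec', mul_mulVec']
        set z := (d⁻¹).1 *ᵥ v with hz
        rw [show v = d.1 *ᵥ z from (mulVec_inv_mulVec d v).symm, ← Matrix.mulVec_sub,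
          hu.2 z d hd]
        exact hu.2 z
    intro d hd
    refine Subgroup.mem_normalizer_iff.2 fun u => ⟨key d hd u, fun hu => ?_⟩
    have := key d⁻¹ (inv_mem hd) _ hu
    simpa [mul_assoc] using this
  refine ⟨D ⊔ flagUni W, hD.to_sup_of_normal_right' (isPGroup_flagUni W) hDN, le_sup_left, ?_⟩
  intro x hx hxc hxe
  have hxW : ∀ (y : SLn), (∀ u ∈ D, Commute u y) → ∀ v ∈ W, y.1 *ᵥ v ∈ W := fun y hy v hv d hd => by
    rw [← mul_mulVec', (hy d hd).eq, mul_mulVec', hv d hd]
  have hxc' : ∀ u ∈ D, Commute u x⁻¹ := fun u hu => (hxc u hu).inv_right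
  have hnorm : ∀ u ∈ flagUni W, x⁻¹ * u * x ∈ flagUni W := fun u hu =>
    ⟨fun v hv => by
      rw [mul_mulVec', mul_mulVec', hu.1 _ (hxW x hxc v hv), inv_mulVec_mulVec],
     fun v => by
      rw [mul_mulVec', mul_mulVec']
      nth_rw 2 [← inv_mulVec_mulVec x v]
      rw [← Matrix.mulVec_sub]
      exact hxW _ hxc' _ (hu.2 _)⟩
  have hUD : flagUni W ≤ D := by
    refine fun u hu => hxe.le (Subgroup.mem_inf.2 ⟨le_sup_right (a := D) hu,
      ⟨x⁻¹ * u * x, le_sup_right (a := D) (hnorm u hu), ?_⟩⟩)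
    show x * (x⁻¹ * u * x) * x⁻¹ = u
    group
  obtain ⟨v₀, hv₀, hv₀0⟩ := Submodule.exists_mem_ne_zero_of_ne_bot hW0
  obtain ⟨y₀, hy₀⟩ : ∃ y₀, y₀ ∉ W := by
    by_contra h
    push Not at h
    exact hWtop (eq_top_iff.2 fun y _ => h y)
  have hfun : ∀ z ∉ W, ∃ f : Fin n → F, f ⬝ᵥ z ≠ 0 ∧ ∀ v ∈ W, f ⬝ᵥ v = 0 := by
    intro z hz
    obtain ⟨φ, hφz, hφW⟩ := Submodule.exists_dual_map_eq_bot_of_notMem hz inferInstance
    have hval : ∀ y, (fun i => φ (Pi.single i 1)) ⬝ᵥ y = φ y := fun y => by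
      conv_rhs => rw [pi_eq_sum_univ' y]
      simp [dotProduct, map_sum, mul_comm]
    refine ⟨fun i => φ (Pi.single i 1), by rw [hval]; exact hφz, fun v hv => ?_⟩
    rw [hval, ← Submodule.mem_bot F, ← hφW]
    exact Submodule.mem_map_of_mem hv
  have hcomm : ∀ v ∈ W, ∀ f : Fin n → F, (∀ u ∈ W, f ⬝ᵥ u = 0) → ∀ y,
      (f ⬝ᵥ y) • (x.1 *ᵥ v) = (f ⬝ᵥ (x.1 *ᵥ y)) • v := by
    intro v hv f hf y
    have hmem : tv v f (hf v hv) ∈ D := hUD ⟨fun u hu => by rw [tv_mulVec, hf u hu, zero_smul, add_zero],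
      fun u => by rw [tv_mulVec, add_sub_cancel_left]; exact W.smul_mem _ hv⟩
    have h := congrArg (fun g : SLn => g.1 *ᵥ y) (hxc _ hmem).eq
    simp only [mul_mulVec', tv_mulVec, Matrix.mulVec_add, Matrix.mulVec_smul] at h
    exact (add_left_cancel h).symm
  obtain ⟨f₀, hf₀, hf₀W⟩ := hfun y₀ hy₀
  set l : F := (f₀ ⬝ᵥ (x.1 *ᵥ y₀)) / (f₀ ⬝ᵥ y₀) with hl
  have hlW : ∀ v ∈ W, x.1 *ᵥ v = l • v := fun v hv => by
    have := hcomm v hv f₀ hf₀W y₀
    rw [hl, div_eq_inv_mul, mul_smul, ← this, smul_smul, inv_mul_cancel₀ hf₀, one_smul]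
  have hq : ∀ y, x.1 *ᵥ y - l • y ∈ W := by
    intro y
    by_contra hn'
    obtain ⟨f, hf, hfW⟩ := hfun _ hn'
    have h := hcomm v₀ hv₀ f hfW y
    rw [hlW v₀ hv₀, smul_smul] at h
    refine hf ?_
    rw [dotProduct_sub, dotProduct_smul, smul_eq_mul, sub_eq_zero, mul_comm]
    exact (smul_left_injective F hv₀0 h).symm
  haveI : CharP (Matrix (Fin n) (Fin n) F) p := Matrix.charP p
  have hN : (x.1 - l • 1) ^ 2 = 0 := by
    refine Matrix.ext_of_mulVec_single fun i => ?_
    rw [pow_two, ← Matrix.mulVec_mulVec, Matrix.sub_mulVec x.1 (l • 1) ((x.1 - l • 1) *ᵥ _),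
      Matrix.smul_mulVec, Matrix.one_mulVec, Matrix.sub_mulVec x.1 (l • 1) (Pi.single i 1),
      Matrix.smul_mulVec, Matrix.one_mulVec, hlW _ (hq _), sub_self, Matrix.zero_mulVec]
  have h4 : (x.1 - l • 1) ^ p = 0 := pow_eq_zero_of_le (Fact.out (p := p.Prime)).two_le hN
  rw [sub_pow_char_of_commute (p := p) ((Commute.one_right _).smul_right l), sub_eq_zero, smul_pow,
    one_pow] at h4
  obtain ⟨m, hm⟩ := exists_pow_eq_self_of_coprime
    ((Fact.out (p := p.Prime)).coprime_iff_not_dvd.2 hx)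
  have hxs : x.1 = (l ^ p) ^ m • (1 : Matrix (Fin n) (Fin n) F) := by
    conv_lhs => rw [← hm]
    rw [Matrix.SpecialLinearGroup.coe_pow, Matrix.SpecialLinearGroup.coe_pow, h4, smul_pow, one_pow]
  refine Subgroup.mem_center_iff.2 fun g => Subtype.ext ?_
  rw [Matrix.SpecialLinearGroup.coe_mul, Matrix.SpecialLinearGroup.coe_mul, hxs, Matrix.mul_smul,
    Matrix.smul_mul, mul_one, one_mul]

/-! ### The big cell -/

/-- The diagonal subgroup. -/
def diag : Subgroup SLn where
  carrier := {A | ∀ a b, a ≠ b → A.1 a b = 0}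
  one_mem' := fun a b h => by simp [h]
  mul_mem' := fun {A B} hA hB a b h => by
    rw [Matrix.SpecialLinearGroup.coe_mul, Matrix.mul_apply]
    refine Finset.sum_eq_zero fun c _ => ?_
    by_cases h' : a = c
    · subst h'; rw [hB a b h, mul_zero]
    · rw [hA a c h', zero_mul]
  inv_mem' := fun {A} hA a b h => by
    rw [Matrix.SpecialLinearGroup.coe_inv, ← Matrix.isDiag_iff_diagonal_diag A.1 |>.1 hA,
      Matrix.adjugate_diagonal, Matrix.diagonal_apply_ne _ h]

theorem mem_diag {A : SLn} : A ∈ diag ↔ ∀ a b, a ≠ b → A.1 a b = 0 := Iff.rfl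

theorem diag_mul_apply {t : SLn} (ht : t ∈ diag) (A : SLn) (a b : Fin n) :
    (t * A).1 a b = t.1 a a * A.1 a b := by
  rw [Matrix.SpecialLinearGroup.coe_mul, Matrix.mul_apply, Finset.sum_eq_single a]
  · exact fun c _ h => by rw [ht a c (Ne.symm h), zero_mul]
  · simp

theorem mul_diag_apply {t : SLn} (ht : t ∈ diag) (A : SLn) (a b : Fin n) :
    (A * t).1 a b = A.1 a b * t.1 b b := by
  rw [Matrix.SpecialLinearGroup.coe_mul, Matrix.mul_apply, Finset.sum_eq_single b]
  · exact fun c _ h => by rw [ht c b h, mul_zero]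
  · simp

theorem diag_apply_ne_zero {t : SLn} (ht : t ∈ diag) (a : Fin n) : t.1 a a ≠ 0 := fun h => by
  have h1 : (t⁻¹ * t).1 a a = 1 := by rw [inv_mul_cancel]; simp
  rw [mul_diag_apply ht, h, mul_zero] at h1
  exact zero_ne_one h1

theorem conj_diag_apply {t : SLn} (ht : t ∈ diag) (A : SLn) (a b : Fin n) :
    (t * A * t⁻¹).1 a b = t.1 a a * A.1 a b * (t.1 b b)⁻¹ := by
  have h : (t * A * t⁻¹ * t).1 a b = (t * A).1 a b := by rw [inv_mul_cancel_right]
  rw [mul_diag_apply ht, diag_mul_apply ht] at h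
  rw [← h, mul_inv_cancel_right₀ (diag_apply_ne_zero ht b)]

variable (n F) in
/-- The signed reversal matrix. -/
def revMat : Matrix (Fin n) (Fin n) F :=
  (1 : Matrix (Fin n) (Fin n) F).submatrix Fin.revPerm id *
    Matrix.diagonal fun c => if c.val = 0 then ((Equiv.Perm.sign (Fin.revPerm : Equiv.Perm (Fin n)) : ℤ) : F) else 1

theorem det_revMat [NeZero n] : (revMat n F).det = 1 := by
  rw [revMat, Matrix.det_mul, Matrix.det_permute, Matrix.det_one, mul_one, Matrix.det_diagonal,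
    Finset.prod_eq_single (0 : Fin n)]
  · rw [if_pos (Fin.val_zero n)]
    rcases Int.units_eq_one_or (Equiv.Perm.sign (Fin.revPerm : Equiv.Perm (Fin n))) with h | h <;>
      simp [h]
  · intro c _ hc
    rw [if_neg fun h => hc (Fin.ext (h.trans (Fin.val_zero n).symm))]
  · simp

variable (n F) in
/-- The signed reversal. -/
def revElt [NeZero n] : SLn := ⟨revMat n F, det_revMat⟩

theorem exists_sign : ∃ σ : Fin n → F, (∀ c, σ c ≠ 0) ∧
    ∀ a c, revMat n F a c = if a = Fin.rev c then σ c else 0 := by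
  refine ⟨fun c => if c.val = 0 then ((Equiv.Perm.sign (Fin.revPerm : Equiv.Perm (Fin n)) : ℤ) : F) else 1,
    fun c => ?_, fun a c => ?_⟩
  · show (if c.val = 0 then _ else _ : F) ≠ 0
    split_ifs
    · rcases Int.units_eq_one_or (Equiv.Perm.sign (Fin.revPerm : Equiv.Perm (Fin n))) with h | h <;>
        simp [h]
    · exact one_ne_zero
  · rw [revMat, Matrix.mul_diagonal, Matrix.submatrix_apply, Matrix.one_apply, id,
      Fin.revPerm_apply]
    by_cases h : a = Fin.rev c
    · rw [if_pos (by rw [h, Fin.rev_rev]), if_pos h, one_mul]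
    · rw [if_neg (fun e => h (by rw [← e, Fin.rev_rev])), if_neg h, zero_mul]

theorem mul_revElt_apply [NeZero n] {σ : Fin n → F}
    (hσ : ∀ a c, revMat n F a c = if a = Fin.rev c then σ c else 0) (A : SLn) (a c : Fin n) :
    (A * revElt n F).1 a c = A.1 a (Fin.rev c) * σ c := by
  rw [Matrix.SpecialLinearGroup.coe_mul, Matrix.mul_apply, Finset.sum_eq_single (Fin.rev c)]
  · show _ * revMat n F _ _ = _
    rw [hσ, if_pos rfl]
  · intro b _ hb
    show _ * revMat n F _ _ = _
    rw [hσ, if_neg hb, mul_zero]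
  · simp

theorem revElt_mul_apply [NeZero n] {σ : Fin n → F}
    (hσ : ∀ a c, revMat n F a c = if a = Fin.rev c then σ c else 0) (A : SLn) (a c : Fin n) :
    (revElt n F * A).1 a c = σ (Fin.rev a) * A.1 (Fin.rev a) c := by
  rw [Matrix.SpecialLinearGroup.coe_mul, Matrix.mul_apply, Finset.sum_eq_single (Fin.rev a)]
  · show revMat n F _ _ * _ = _
    rw [hσ, if_pos (Fin.rev_rev a).symm]
  · intro b _ hb
    show revMat n F _ _ * _ = _
    rw [hσ, if_neg (fun e => hb (by rw [e, Fin.rev_rev])), zero_mul]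
  · simp

theorem conj_revElt_zero [NeZero n] {A B : SLn} (h : A * revElt n F = revElt n F * B) (a b : Fin n) :
    (A.1 a b = 0 ↔ B.1 (Fin.rev a) (Fin.rev b) = 0) ∧ A.1 a a = B.1 (Fin.rev a) (Fin.rev a) := by
  obtain ⟨σ, hσ0, hσ⟩ := exists_sign (n := n) (F := F)
  have key : ∀ b, A.1 a b * σ (Fin.rev b) = σ (Fin.rev a) * B.1 (Fin.rev a) (Fin.rev b) := fun b => by
    have h1 := congrArg (fun g : SLn => g.1 a (Fin.rev b)) h
    simp only [mul_revElt_apply hσ, revElt_mul_apply hσ, Fin.rev_rev] at h1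
    exact h1
  refine ⟨⟨fun h0 => ?_, fun h0 => ?_⟩, ?_⟩
  · have := key b
    rw [h0, zero_mul] at this
    exact (mul_eq_zero.1 this.symm).resolve_left (hσ0 _)
  · have := key b
    rw [h0, mul_zero] at this
    exact (mul_eq_zero.1 this).resolve_right (hσ0 _)
  · exact mul_right_cancel₀ (hσ0 (Fin.rev a)) ((key a).trans (mul_comm _ _))

/-- Lower unitriangular elements. -/
def IsLowerUni (A : SLn) : Prop := (∀ a b, a < b → A.1 a b = 0) ∧ ∀ a, A.1 a a = 1

theorem isLowerUni_of_conj [NeZero n] {A B : SLn} (h : A * revElt n F = revElt n F * B) (hB : B ∈ unitri) :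
    IsLowerUni A :=
  ⟨fun a b hab => (conj_revElt_zero h a b).1.2 (hB.1 (show id (Fin.rev b) < id (Fin.rev a) from
    Fin.rev_lt_rev.2 hab)), fun a => by rw [(conj_revElt_zero h a a).2]; exact hB.2 _⟩

theorem mem_unitri_of_conj [NeZero n] {A B : SLn} (h : A * revElt n F = revElt n F * B)
    (hA : IsLowerUni A) : B ∈ unitri := by
  refine mem_unitri.2 ⟨fun a b hab => ?_, fun a => ?_⟩
  · have := (conj_revElt_zero h (Fin.rev a) (Fin.rev b)).1.1 (hA.1 _ _ (Fin.rev_lt_rev.2 hab))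
    rwa [Fin.rev_rev, Fin.rev_rev] at this
  · have := (conj_revElt_zero h (Fin.rev a) (Fin.rev a)).2
    rw [Fin.rev_rev, hA.2] at this
    exact this.symm

theorem conj_mem_unitri {t : SLn} (ht : t ∈ diag) {u : SLn} (hu : u ∈ unitri) : t * u * t⁻¹ ∈ unitri := by
  refine mem_unitri.2 ⟨fun a b hab => ?_, fun a => ?_⟩
  · rw [conj_diag_apply ht, hu.1 hab, mul_zero, zero_mul]
  · rw [conj_diag_apply ht, hu.2, mul_one, mul_inv_cancel₀ (diag_apply_ne_zero ht a)]

/-- Vectors supported on the first `i` coordinates. -/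
def ext0 (i : ℕ) : (Fin i → F) →ₗ[F] (Fin n → F) where
  toFun x := fun a => if h : a.val < i then x ⟨a.val, h⟩ else 0
  map_add' x y := by funext a; by_cases h : a.val < i <;> simp [h]
  map_smul' c x := by funext a; by_cases h : a.val < i <;> simp [h]

theorem ext0_apply_of_le {i : ℕ} (x : Fin i → F) {a : Fin n} (h : i ≤ a.val) : ext0 i x a = 0 :=
  dif_neg (not_lt.2 h)

theorem ext0_injective {i : ℕ} (h : i ≤ n) : Function.Injective (ext0 (n := n) (F := F) i) :=
  fun x y e => funext fun c => by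
    have := congrFun e ⟨c.val, lt_of_lt_of_le c.isLt h⟩
    simpa [ext0] using this

theorem exists_ext0 {i : ℕ} (hi : i ≤ n) {v : Fin n → F} (h : ∀ a : Fin n, i ≤ a.val → v a = 0) :
    ∃ x, ext0 i x = v :=
  ⟨fun c => v ⟨c.val, lt_of_lt_of_le c.isLt hi⟩, funext fun a => by
    by_cases ha : a.val < i
    · simp [ext0, ha]
    · rw [ext0_apply_of_le _ (not_lt.1 ha), h a (not_lt.1 ha)]⟩

theorem exists_common (g : SLn) {i j : ℕ} (hi : i ≤ n) (hij : n < i + j) (hj : j ≤ n) :
    ∃ v : Fin n → F, v ≠ 0 ∧ (∀ a : Fin n, i ≤ a.val → v a = 0) ∧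
      ∀ a : Fin n, j ≤ a.val → ((g⁻¹).1 *ᵥ v) a = 0 := by
  let ψ : ((Fin i → F) × (Fin j → F)) →ₗ[F] (Fin n → F) :=
    (ext0 i).coprod (-(g.1.mulVecLin.comp (ext0 j)))
  have hinj : ¬ Function.Injective ψ := fun h => by
    have := LinearMap.finrank_le_finrank_of_injective h
    simp only [Module.finrank_prod, Module.finrank_fin_fun] at this
    omega
  obtain ⟨z, hz, hz0⟩ : ∃ z, ψ z = 0 ∧ z ≠ 0 := by
    by_contra h
    push Not at h
    exact hinj ((injective_iff_map_eq_zero ψ).2 h)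
  have he : ext0 i z.1 = g.1 *ᵥ ext0 j z.2 := by
    simpa [ψ, add_neg_eq_zero] using hz
  refine ⟨ext0 i z.1, fun h0 => hz0 ?_, fun a ha => ext0_apply_of_le _ ha, fun a ha => ?_⟩
  · have h2 : ext0 j z.2 = (0 : Fin n → F) := by
      rw [← inv_mulVec_mulVec g (ext0 j z.2), ← he, h0, Matrix.mulVec_zero]
    exact Prod.ext (ext0_injective hi (h0.trans (map_zero _).symm))
      (ext0_injective hj (h2.trans (map_zero _).symm))
  · rw [he, inv_mulVec_mulVec]
    exact ext0_apply_of_le _ ha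

theorem tv_mem_unitri_of_flag {v f : Fin n → F} (h : f ⬝ᵥ v = 0) {i : ℕ}
    (hv : ∀ a : Fin n, i ≤ a.val → v a = 0) (hf : ∀ a : Fin n, a.val < i → f a = 0) :
    tv v f h ∈ unitri := by
  have hz : ∀ a b : Fin n, b ≤ a → v a * f b = 0 := fun a b hba => by
    by_cases hb : b.val < i
    · rw [hf b hb, mul_zero]
    · rw [hv a (le_trans (not_lt.1 hb) (Fin.le_def.1 hba)), zero_mul]
  refine mem_unitri.2 ⟨fun a b hab => ?_, fun a => ?_⟩
  · rw [tv_val, rk1, Matrix.add_apply, Matrix.one_apply_ne (ne_of_gt (show b < a from hab)), zero_add,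
      Matrix.vecMulVec_apply, hz a b (le_of_lt hab)]
  · rw [tv_val, rk1, Matrix.add_apply, Matrix.one_apply_eq, Matrix.vecMulVec_apply,
      hz a a le_rfl, add_zero]

theorem cover [NeZero n] (g : SLn) :
    (∃ u ∈ unitri, ∃ t ∈ diag, ∃ u' ∈ unitri, g = u * revElt n F * t * u') ∨
      ∃ q ∈ unitri, q ≠ 1 ∧ g⁻¹ * q * g ∈ unitri := by
  classical
  by_cases hbad : ∃ i : ℕ, 0 < i ∧ i < n ∧ ∃ v : Fin n → F, v ≠ 0 ∧
      (∀ a : Fin n, i ≤ a.val → v a = 0) ∧ ∀ a : Fin n, n - i ≤ a.val → ((g⁻¹).1 *ᵥ v) a = 0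
  · right
    obtain ⟨i, hi0, hin, v, hv0, hv, hgv⟩ := hbad
    let ψ : ((Fin i → F) × (Fin (n - i) → F)) →ₗ[F] (Fin n → F) :=
      (ext0 i).coprod (g.1.mulVecLin.comp (ext0 (n - i)))
    have hni : ¬ Function.Injective ψ := fun hinj => by
      obtain ⟨x, hx⟩ := exists_ext0 (i := i) hin.le hv
      obtain ⟨y, hy⟩ := exists_ext0 (i := n - i) (by omega) hgv
      have h0 : ψ (x, -y) = ψ 0 := by
        rw [map_zero]
        simp only [ψ, LinearMap.coprod_apply, LinearMap.comp_apply, map_neg, Matrix.mulVecLin_apply,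
          hx, hy, mulVec_inv_mulVec, Matrix.mulVec_neg, add_neg_cancel]
      have hx0 : x = 0 := congrArg Prod.fst (hinj h0)
      rw [hx0, map_zero] at hx
      exact hv0 hx.symm
    have hns : LinearMap.range ψ ≠ ⊤ := fun h => hni <| by
      rw [LinearMap.injective_iff_surjective_of_finrank_eq_finrank]
      · exact LinearMap.range_eq_top.1 h
      · simp only [Module.finrank_prod, Module.finrank_fin_fun]; omega
    obtain ⟨φ, hφ0, hφ⟩ := Submodule.exists_le_ker_of_lt_top _ (lt_top_iff_ne_top.2 hns)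
    set f : Fin n → F := fun a => φ (Pi.single a 1) with hf
    have hval : ∀ y, f ⬝ᵥ y = φ y := fun y => by
      conv_rhs => rw [pi_eq_sum_univ' y]
      simp [hf, dotProduct, map_sum, mul_comm]
    have hfi : ∀ a : Fin n, a.val < i → f a = 0 := fun a ha => by
      refine LinearMap.mem_ker.1 (hφ ⟨(Pi.single ⟨a.val, ha⟩ 1, 0), ?_⟩)
      funext b
      simp only [ψ, LinearMap.coprod_apply, map_zero, add_zero]
      by_cases hb : b.val < i
      · simp [ext0, hb, Pi.single_apply, Fin.ext_iff]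
      · rw [ext0_apply_of_le _ (not_lt.1 hb), Pi.single_eq_of_ne]
        rintro rfl
        exact hb ha
    have hfg : ∀ a : Fin n, a.val < n - i → (f ᵥ* g.1) a = 0 := fun a ha => by
      rw [← dotProduct_single_one (f ᵥ* g.1) a, ← Matrix.dotProduct_mulVec, hval]
      refine LinearMap.mem_ker.1 (hφ ⟨(0, Pi.single ⟨a.val, ha⟩ 1), ?_⟩)
      simp only [ψ, LinearMap.coprod_apply, map_zero, zero_add, LinearMap.comp_apply,
        Matrix.mulVecLin_apply]
      congr 1
      funext b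
      by_cases hb : b.val < n - i
      · simp [ext0, hb, Pi.single_apply, Fin.ext_iff]
      · rw [ext0_apply_of_le _ (not_lt.1 hb), Pi.single_eq_of_ne]
        rintro rfl
        exact hb ha
    have hfv : f ⬝ᵥ v = 0 := Finset.sum_eq_zero fun a _ => by
      by_cases ha : a.val < i
      · rw [hfi a ha, zero_mul]
      · rw [hv a (not_lt.1 ha), mul_zero]
    refine ⟨tv v f hfv, tv_mem_unitri_of_flag hfv hv hfi, fun h1 => ?_, ?_⟩
    · obtain ⟨y, hy⟩ : ∃ y, φ y ≠ 0 := by
        by_contra h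
        push Not at h
        exact hφ0 (LinearMap.ext h)
      have := congrArg (fun z : SLn => z.1 *ᵥ y) h1
      simp only [tv_mulVec, Matrix.SpecialLinearGroup.coe_one, Matrix.one_mulVec, add_eq_left,
        smul_eq_zero, hval, hy, hv0, or_self] at this
    · have h0 : (f ᵥ* g.1) ⬝ᵥ ((g⁻¹).1 *ᵥ v) = 0 := by
        rw [← Matrix.dotProduct_mulVec, mulVec_inv_mulVec, hfv]
      rw [show g⁻¹ * tv v f hfv * g = tv _ _ h0 from Subtype.ext
        (Matrix.ext_of_mulVec_single fun a => by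
          rw [tv_mulVec, mul_mulVec', mul_mulVec', tv_mulVec, Matrix.mulVec_add, inv_mulVec_mulVec,
            Matrix.mulVec_smul, Matrix.dotProduct_mulVec])]
      exact tv_mem_unitri_of_flag h0 hgv hfg
  · left
    push Not at hbad
    have hb : ∀ l : Fin n, ∃ v : Fin n → F, v l = 1 ∧ (∀ a, l < a → v a = 0) ∧
        ∀ a : Fin n, n - l.val ≤ a.val → ((g⁻¹).1 *ᵥ v) a = 0 := by
      intro l
      have hl := l.isLt
      obtain ⟨v, hv0, hv, hgv⟩ := exists_common g (i := l.val + 1) (j := n - l.val) (by omega)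
        (by omega) (by omega)
      have hvl : v l ≠ 0 := fun h0 => by
        have hv' : ∀ a : Fin n, l.val ≤ a.val → v a = 0 := fun a ha => by
          rcases eq_or_lt_of_le ha with h | h
          · rwa [← Fin.ext h]
          · exact hv a h
        rcases Nat.eq_zero_or_pos l.val with h | h
        · exact hv0 (funext fun a => hv' a (by omega))
        · obtain ⟨a, ha, hne⟩ := hbad l.val h hl v hv0 hv'
          exact hne (hgv a ha)
      refine ⟨(v l)⁻¹ • v, by simp [hvl], fun a ha => ?_, fun a ha => ?_⟩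
      · rw [Pi.smul_apply, hv a (Fin.lt_def.1 ha), smul_zero]
      · rw [Matrix.mulVec_smul, Pi.smul_apply, hgv a ha, smul_zero]
    choose b hb1 hb2 hb3 using hb
    let M : Matrix (Fin n) (Fin n) F := Matrix.of fun a l => b l a
    have hMt : M.BlockTriangular id := fun a l hal => hb2 l a hal
    have hMd : M.det = 1 := by
      rw [Matrix.det_of_isUpperTriangular hMt]
      exact Finset.prod_eq_one fun a _ => hb1 a
    set u : SLn := ⟨M, hMd⟩ with hu
    have hum : u ∈ unitri := mem_unitri.2 ⟨hMt, hb1⟩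
    obtain ⟨σ, hσ0, hσ⟩ := exists_sign (n := n) (F := F)
    set B : SLn := g⁻¹ * u * revElt n F with hB
    have hBt : B.1.BlockTriangular id := fun a c hca => by
      change c < a at hca
      rw [hB, mul_revElt_apply hσ]
      have : (g⁻¹ * u).1 a (Fin.rev c) = ((g⁻¹).1 *ᵥ b (Fin.rev c)) a := rfl
      rw [this, hb3 (Fin.rev c) a (by rw [Fin.val_rev]; have := c.isLt; have := Fin.lt_def.1 hca; omega),
        zero_mul]
    have hB'dvd := B⁻¹.1
    have hB't : (B⁻¹).1.BlockTriangular id := by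
      haveI : Invertible B.1 :=
        ⟨(B⁻¹).1, by rw [← Matrix.SpecialLinearGroup.coe_mul, inv_mul_cancel]; rfl,
          by rw [← Matrix.SpecialLinearGroup.coe_mul, mul_inv_cancel]; rfl⟩
      have h := Matrix.blockTriangular_inv_of_blockTriangular hBt
      rwa [Matrix.inv_eq_left_inv (B := (B⁻¹).1)
        (by rw [← Matrix.SpecialLinearGroup.coe_mul, inv_mul_cancel]; rfl)] at h
    have hdet : (Matrix.diagonal fun a => (B⁻¹).1 a a).det = 1 := by
      rw [Matrix.det_diagonal, ← Matrix.det_of_isUpperTriangular hB't]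
      exact (B⁻¹).2
    set t : SLn := ⟨_, hdet⟩ with ht
    have htd : t ∈ diag := fun a c h => Matrix.diagonal_apply_ne _ h
    have htt : ∀ a, (t⁻¹).1 a a * (B⁻¹).1 a a = 1 := fun a => by
      have h1 : (t⁻¹ * t).1 a a = 1 := by rw [inv_mul_cancel]; simp
      rw [mul_diag_apply htd] at h1
      rwa [show t.1 a a = (B⁻¹).1 a a from Matrix.diagonal_apply_eq _ a] at h1
    refine ⟨u, hum, t, htd, t⁻¹ * B⁻¹, mem_unitri.2 ⟨fun a c hca => ?_, fun a => ?_⟩, ?_⟩
    · rw [diag_mul_apply (inv_mem htd), hB't hca, mul_zero]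
    · rw [diag_mul_apply (inv_mem htd), htt]
    · rw [hB]; group

theorem bigCell [NeZero n] : BigCell (unitri (n := n) (F := F)) diag (revElt n F) where
  comm s hs t ht := Subtype.ext (Matrix.ext fun a b => by
    rw [diag_mul_apply hs, mul_diag_apply hs]
    by_cases h : a = b
    · subst h; ring
    · rw [ht a b h, mul_zero, zero_mul])
  norm t ht u hu := conj_mem_unitri ht hu
  conjT t ht := by
    refine ⟨fun a b hab => (conj_revElt_zero (B := t) (inv_mul_cancel_right _ _) a b).1.2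
      (ht _ _ (fun e => hab (Fin.rev_injective e))), fun a b hab => ?_⟩
    have h := (conj_revElt_zero (A := t) (B := (revElt n F)⁻¹ * t * revElt n F)
      (by group) (Fin.rev a) (Fin.rev b)).1.1 (ht _ _ (fun e => hab (Fin.rev_injective e)))
    rwa [Fin.rev_rev, Fin.rev_rev] at h
  sqT a c hac := by
    obtain ⟨σ, -, hσ⟩ := exists_sign (n := n) (F := F)
    rw [revElt_mul_apply hσ]
    show _ * revMat n F _ _ = _
    rw [hσ, if_neg fun e => hac (Fin.rev_injective e), mul_zero]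
  inj u hu t ht u' hu' v hv s hs v' hv' e := by
    set a := v⁻¹ * u with ha
    have e2 : revElt n F * (s * v' * u'⁻¹ * t⁻¹) = a * revElt n F := by
      have : a * revElt n F * t * u' = revElt n F * s * v' := by
        rw [ha, show v⁻¹ * u * revElt n F * t * u' = v⁻¹ * (u * revElt n F * t * u') by group, e]
        group
      rw [show revElt n F * (s * v' * u'⁻¹ * t⁻¹) = revElt n F * s * v' * (u'⁻¹ * t⁻¹) by group,
        ← this]
      group
    set m := s * v' * u'⁻¹ * t⁻¹ with hm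
    have ham : a ∈ unitri := unitri.mul_mem (unitri.inv_mem hv) hu
    have hmu : m = (s * (v' * u'⁻¹) * s⁻¹) * (s * t⁻¹) := by rw [hm]; group
    have hst : s * t⁻¹ ∈ diag := diag.mul_mem hs (diag.inv_mem ht)
    have hmt : ∀ a b, b < a → m.1 a b = 0 := fun i j hij => by
      rw [hmu, mul_diag_apply hst,
        (conj_mem_unitri hs (unitri.mul_mem hv' (unitri.inv_mem hu'))).1 hij, zero_mul]
    have hzero : ∀ i j, i ≠ j → m.1 i j = 0 := fun i j hij => by
      rcases lt_or_gt_of_ne hij with h | h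
      · have := (conj_revElt_zero e2.symm (Fin.rev i) (Fin.rev j)).1.1 (ham.1 (Fin.rev_lt_rev.2 h))
        rwa [Fin.rev_rev, Fin.rev_rev] at this
      · exact hmt i j h
    have hdiag : ∀ i, m.1 i i = 1 := fun i => by
      have := (conj_revElt_zero e2.symm (Fin.rev i) (Fin.rev i)).2
      rw [Fin.rev_rev, ham.2] at this
      exact this.symm
    have hm1 : m = 1 := Subtype.ext (Matrix.ext fun i j => by
      by_cases h : i = j
      · subst h; rw [hdiag]; simp
      · rw [hzero i j h]; simp [h])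
    have ha1 : a = 1 := by
      rw [hm1, mul_one] at e2
      exact mul_eq_right.1 e2.symm
    have huv : u = v := (inv_mul_eq_one.1 ha1).symm
    have hsv : s * v' = t * u' := by
      rw [hm, mul_inv_eq_one, mul_inv_eq_iff_eq_mul] at hm1
      exact hm1
    have hts : t = s := Subtype.ext (Matrix.ext fun i j => by
      by_cases h : i = j
      · subst h
        have := congrArg (fun g : SLn => g.1 i i) hsv
        simp only [diag_mul_apply hs, diag_mul_apply ht, hv'.2, hu'.2, mul_one] at this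
        exact this.symm
      · rw [ht i j h, hs i j h])
    exact ⟨huv, hts, by rw [hts] at hsv; exact (mul_left_cancel hsv).symm⟩
  cover g := cover g

theorem isPGroup_unitri [NeZero n] : IsPGroup p (unitri (n := n) (F := F)) := fun u =>
  ⟨n, Subtype.ext (by rw [SubgroupClass.coe_pow, CfsgLib.AutPSL.unitri_pow_eq_one u.2, Subgroup.coe_one])⟩

end CfsgLib.Block.DefiningChar.SL
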