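import Cfsg.Agent.Lib.Block.DefiningChar.Chevalley
import Cfsg.Agent.Lib.Lie.Chev.StChar
import Cfsg.Agent.S0914

/-!
# The blocks of a finite Chevalley group in defining characteristic
-/

set_option autoImplicit false
set_option maxRecDepth 100000
set_option linter.unusedSectionVars false

namespace CfsgLib.Block.DefiningChar.Chevalley

open Cfsg Cfsg.Lie CfsgLib.Lie.Chev CfsgLib.Block CfsgLib.Block.DefiningChar

variable {D : ChevalleyDatum} {F : Type*} [Field F] [Fintype F] {p : ℕ} [Fact p.Prime] [CharP F p]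

theorem factorization_card_group (C : Full D) :
    p ^ (Nat.card ↥(D.group F)).factorization p = Fintype.card F ^ (D.nroots / 2) := by
  classical
  obtain ⟨S, hS⟩ := C.exists_sylow (F := F) p
  rw [← S.card_eq_multiplicity, ← C.posUnipotent_card (K := F)]
  show Nat.card (S : Subgroup ↥(D.group F)) = _
  rw [hS]
  exact Nat.card_congr (Subgroup.subgroupOfEquivOfLe C.G.posUnipotent_le_group).toEquiv

/-- A character of degree divisible by the full `p`-part forms a block of defect zero. -/
theorem block_of_degree {G : Type*} [Group G] [Finite G] {M : Ideal AlgInt} (hM : IsPModular p M)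
    (χ : IrrCharacter G) {d : ℕ} (hd : (χ : G → ℂ) 1 = (d : ℂ))
    (hdvd : p ^ (Nat.card G).factorization p ∣ d) :
    blockOf M (χ : G → ℂ) = {χ} ∧ IsPBlock M (blockOf M (χ : G → ℂ)) ∧
      blockDefect p (blockOf M (χ : G → ℂ)) = 0 := by
  classical
  have := Fintype.ofFinite G
  have hp : p.Prime := hM.1
  obtain ⟨e, he0, he⟩ := CfsgLib.Char.isIrrCharacter_degree χ.2
  have hed : e = d := by exact_mod_cast he.symm.trans hd
  subst hed
  have hdeg : charDegree (χ : G → ℂ) = e := by simp [charDegree, he]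
  have hdiv := CfsgLib.Char.degree_dvd_card χ he
  have hfac : e.factorization p = (Nat.card G).factorization p := le_antisymm
    ((Nat.factorization_le_iff_dvd he0.ne' Nat.card_pos.ne').2 hdiv p)
    ((hp.pow_dvd_iff_le_factorization he0.ne').1 hdvd)
  have hs : blockOf M (χ : G → ℂ) = {χ} := (Cfsg.Agent.S0914.result p M hM χ).1 fun h => by
    rw [hdeg] at h
    obtain ⟨m, hm⟩ := hdiv
    rw [hm, Nat.mul_div_cancel_left _ he0] at h
    have hm0 : m ≠ 0 := fun h0 => by rw [h0, mul_zero] at hm; exact Nat.card_pos.ne' hm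
    rw [hm, Nat.factorization_mul he0.ne' hm0, Finsupp.add_apply] at hfac
    have := hp.factorization_pos_of_dvd hm0 h
    omega
  exact ⟨hs, exists_defect_zero_of_degree hM rfl hs (by rw [hdeg, hfac])⟩

theorem eq_of_defect_zero_chev (C : Full D) {M : Ideal AlgInt} (hM : IsPModular p M)
    {B B' : Set (IrrCharacter ↥(D.group F))} (hB : IsPBlock M B) (hB' : IsPBlock M B')
    (h0 : blockDefect p B = 0) (h0' : blockDefect p B' = 0) : B = B' := by
  classical
  have := hM.2.1
  have := charP_resField hM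
  have := Fintype.ofFinite ↥(D.group F)
  have := Fintype.ofFinite (UG D F)
  have := Fintype.ofFinite (TG D F)
  exact eq_of_defect_zero hM (bigCell C) (isPGroup_UG C p)
    (diag_le_closure_invariant C p (ResField M)) hB hB' h0 h0'

variable (hD : D ∈ [chevG2, chevB2, chevD4, chevF4, chevE6, chevE7, chevE8])

include hD

theorem radicalCentral_chev (C : Full D) : RadicalCentral p ↥(D.group F) :=
  radicalCentral C p (chkPairOut_all hD) (chkSupp_all hD)
    fun _ hJ => C.PJ_cent_le (chkSupp_all hD) (chkPairOut_all hD) hJ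

theorem rank_pos : 0 < D.rank := by
  simp only [List.mem_cons, List.not_mem_nil, or_false] at hD
  rcases hD with rfl | rfl | rfl | rfl | rfl | rfl | rfl <;> decide

theorem center_eq_bot (C : Full D) : Subgroup.center ↥(D.group F) = ⊥ := by
  classical
  refine (Subgroup.eq_bot_iff_forall _).2 fun z hz => ?_
  have hcomm : ∀ g : ↥(D.group F), g * z = z * g := Subgroup.mem_center_iff.1 hz
  have hJ : (∅ : Finset (Fin D.rank)) ≠ Finset.univ := fun h =>
    Finset.notMem_empty (⟨0, rank_pos hD⟩ : Fin D.rank) (h ▸ Finset.mem_univ _)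
  have hc : ∀ v ∈ D.group F, v * z.1 = z.1 * v := fun v hv => congrArg Subtype.val (hcomm ⟨v, hv⟩)
  have hURle : ∀ v ∈ (UR C.G (∅ : Finset (Fin D.rank)) : Subgroup (GL D.Idx F)), v ∈ D.group F :=
    fun v hv => C.G.posUnipotent_le_group (C.G.UR_le_U hv)
  have hPJ : z.1 ∈ C.PJ (K := F) ∅ := by
    rw [← C.normalizer_UR (chkSupp_all hD)]
    refine Subgroup.mem_inf.2 ⟨Subgroup.mem_normalizer_iff.2 fun v => ⟨fun hv => ?_, fun hv => ?_⟩, z.2⟩
    · rw [← hc v (hURle v hv), mul_inv_cancel_right]; exact hv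
    · have h1 : z.1⁻¹ * (z.1 * v * z.1⁻¹) * z.1 = v := by group
      have h2 := hc _ (hURle _ hv)
      rw [mul_assoc z.1⁻¹, h2, inv_mul_cancel_left] at h1
      rw [← h1]; exact hv
  have hzU : z.1 ∈ D.posUnipotent F := C.G.UR_le_U
    (C.PJ_cent_le (chkSupp_all hD) (chkPairOut_all hD) hJ (Subgroup.mem_inf.2
      ⟨hPJ, Subgroup.mem_centralizer_iff.2 fun v hv => hc v (hURle v hv)⟩))
  have hzV : z.1 ∈ D.negUnipotent F := by
    rw [mem_negUnipotent_iff C, mul_assoc,
      ← hc _ (C.G.monomial_le_group (C.G.nw_mem_monomial _)), inv_mul_cancel_left]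
    exact hzU
  have h := Subgroup.mem_inf.2 ⟨hzU, hzV⟩
  rw [C.G.U_inf_V_eq, Subgroup.mem_bot] at h
  exact Subtype.ext h

theorem card_blocks_chev (C : Full D) {M : Ideal AlgInt} (hM : IsPModular p M) :
    Nat.card {B : Set (IrrCharacter ↥(D.group F)) // IsPBlock M B} = 2 := by
  classical
  have hcard : Nat.card (Subgroup.center ↥(D.group F)) = 1 := by
    rw [center_eq_bot hD C, Subgroup.card_bot]
  have hone : Nat.card {B : Set (IrrCharacter ↥(D.group F)) // IsPBlock M B ∧ blockDefect p B = 0} = 1 := by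
    rw [Nat.card_eq_one_iff_unique]
    refine ⟨⟨fun B B' => Subtype.ext (eq_of_defect_zero_chev C hM B.2.1 B'.2.1 B.2.2 B'.2.2)⟩, ?_⟩
    obtain ⟨-, h1, h2⟩ := block_of_degree hM
      (⟨_, C.isIrr_steinberg (chkSupp_all hD)⟩ : IrrCharacter ↥(D.group F))
      (d := Fintype.card F ^ (D.nroots / 2))
      (by rw [Nat.cast_pow]; exact C.steinberg_degree (chkSupp_all hD))
      (dvd_of_eq (factorization_card_group C))
    exact ⟨⟨_, h1, h2⟩⟩
  have hpG : p ∣ Nat.card ↥(D.group F) := by
    obtain ⟨f, hf0, hf⟩ := FiniteField.card F p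
    refine dvd_trans ?_ (Nat.ordProj_dvd (Nat.card ↥(D.group F)) p)
    rw [factorization_card_group C, hf, ← pow_mul]
    refine dvd_pow_self p (Nat.mul_pos f.pos ?_).ne'
    simp only [List.mem_cons, List.not_mem_nil, or_false] at hD
    rcases hD with rfl | rfl | rfl | rfl | rfl | rfl | rfl <;> decide
  rw [card_blocks hM (radicalCentral_chev hD C) hpG
    (by rw [hcard]; exact fun h => hM.1.ne_one (Nat.dvd_one.1 h)) hone, hcard]

end CfsgLib.Block.DefiningChar.Chevalley
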