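import Cfsg.Agent.Lib.Block.DefiningChar.RootSplit
import Cfsg.Agent.Lib.Lie.Chev.BorelTits
import Cfsg.Agent.Lib.Lie.Chev.SL2Root

/-!
# Chevalley groups in defining characteristic: radical subgroups and the big cell
-/

set_option autoImplicit false
set_option maxRecDepth 100000
set_option linter.unusedSectionVars false

namespace CfsgLib.Block.DefiningChar.Chevalley

open Cfsg.Lie CfsgLib.Lie.Chev CfsgLib.Block.DefiningChar
open scoped MatrixGroups
open CfsgLib.FusionCharP.Linear (el el_val)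

variable {D : ChevalleyDatum} (C : Full D) {K : Type*} [Field K]

/-- The radical property of a finite Chevalley group. -/
theorem radicalCentral [Fintype K] (p : ℕ) [Fact p.Prime] [CharP K p] (hchk : chkPairOut D = true)
    (hsupp : chkSupp D = true)
    (hcent : ∀ J : Finset (Fin D.rank), J ≠ Finset.univ →
      C.PJ (K := K) J ⊓ Subgroup.centralizer ((UR C.G J : Subgroup (GL D.Idx K)) : Set (GL D.Idx K)) ≤
        UR C.G J) :
    RadicalCentral p ↥(D.group K) := by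
  intro Q hQ hne
  obtain ⟨g, hg, J, hJ, hU, hN⟩ := C.borel_tits p (Q.map (D.group K).subtype)
    (Subgroup.map_subtype_le Q) (hQ.map _)
    (fun h => hne ((Subgroup.map_eq_bot_iff_of_injective Q Subtype.val_injective).1 h))
  set f : ↥(D.group K) →* GL D.Idx K := (MulAut.conj g).toMonoidHom.comp (D.group K).subtype
  have hf : Function.Injective f := fun a b h => Subtype.ext ((MulAut.conj g).injective h)
  let P : Subgroup ↥(D.group K) := (UR C.G J : Subgroup (GL D.Idx K)).comap f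
  obtain ⟨S, hS⟩ := C.exists_sylow (F := K) p
  have hUp : IsPGroup p ↥(D.posUnipotent K) := by
    have h := S.isPGroup'
    rw [hS] at h
    exact h.of_equiv (Subgroup.subgroupOfEquivOfLe C.G.posUnipotent_le_group)
  have hURp : IsPGroup p (UR C.G J : Subgroup (GL D.Idx K)) := hUp.to_le C.G.UR_le_U
  refine ⟨P, hURp.comap_of_injective f hf, fun d hd => hU d ⟨d, hd, rfl⟩, fun x hx hxc hxe => ?_⟩
  have hgx : g * x.1 * g⁻¹ ∈ C.PJ (K := K) J := hN x.1 x.2 fun d hd => by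
    obtain ⟨d', hd', rfl⟩ := hd
    refine ⟨d', hd', ?_⟩
    have h := congrArg Subtype.val (hxc d' hd').eq
    simp only [Subgroup.coe_mul] at h
    show (d' : GL D.Idx K) = x.1 * d' * x.1⁻¹
    rw [← h, mul_inv_cancel_right]
  have hnorm := Subgroup.mem_normalizer_iff.1 (C.PJ_le_normalizer hgx)
  have hPQ : P ≤ Q := by
    intro u hu
    refine hxe.le (Subgroup.mem_inf.2 ⟨hu, ⟨x⁻¹ * u * x, ?_, ?_⟩⟩)
    · show g * (x⁻¹ * u * x : ↥(D.group K)).1 * g⁻¹ ∈ (UR C.G J : Subgroup (GL D.Idx K))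
      rw [hnorm]
      have : g * x.1 * g⁻¹ * (g * (x⁻¹ * u * x : ↥(D.group K)).1 * g⁻¹) * (g * x.1 * g⁻¹)⁻¹ =
          g * u.1 * g⁻¹ := by
        simp only [Subgroup.coe_mul, Subgroup.coe_inv]; group
      rw [this]
      exact hu
    · show x * (x⁻¹ * u * x) * x⁻¹ = u
      group
  have hgU : g * x.1 * g⁻¹ ∈ (UR C.G J : Subgroup (GL D.Idx K)) := by
    refine hcent J hJ (Subgroup.mem_inf.2 ⟨hgx, Subgroup.mem_centralizer_iff.2 fun v hv => ?_⟩)
    have hvG : g⁻¹ * v * g ∈ D.group K :=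
      mul_mem (mul_mem (inv_mem hg) (C.G.posUnipotent_le_group (C.G.UR_le_U hv))) hg
    have hmem : (⟨_, hvG⟩ : ↥(D.group K)) ∈ P := by
      show g * (g⁻¹ * v * g) * g⁻¹ ∈ (UR C.G J : Subgroup (GL D.Idx K))
      rw [show g * (g⁻¹ * v * g) * g⁻¹ = v by group]; exact hv
    have h := congrArg Subtype.val (hxc _ (hPQ hmem)).eq
    simp only [Subgroup.coe_mul] at h
    calc v * (g * x.1 * g⁻¹) = g * (g⁻¹ * v * g * x.1) * g⁻¹ := by group
      _ = g * (x.1 * (g⁻¹ * v * g)) * g⁻¹ := by rw [h]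
      _ = g * x.1 * g⁻¹ * v := by group
  have hxP : x ∈ P := hgU
  obtain ⟨m, hm⟩ := (hURp.comap_of_injective f hf) ⟨x, hxP⟩
  have hdvd : orderOf x ∣ p ^ m := orderOf_dvd_of_pow_eq_one (by simpa using congrArg Subtype.val hm)
  obtain ⟨j, -, hj⟩ := (Nat.dvd_prime_pow (Fact.out (p := p.Prime))).1 hdvd
  rcases Nat.eq_zero_or_pos j with rfl | hjp
  · rw [pow_zero, orderOf_eq_one_iff] at hj
    rw [hj]
    exact one_mem _
  · exact absurd (hj ▸ dvd_pow_self p hjp.ne') hx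

/-- A set of roots away from `±α` in the negative half. -/
def NegEx (i : Fin D.rank) (r : Fin D.nroots) : Prop :=
  D.IsNegRoot r.val ∧ r ≠ C.G.negr (C.G.simp' i)

theorem negEx_coord {i : Fin D.rank} {r : Fin D.nroots} :
    NegEx C i r ↔ ∃ j, j ≠ i ∧ C.G.rho r j < 0 := by
  constructor
  · rintro ⟨h1, h2⟩
    obtain ⟨j, hj, hpos⟩ := C.G.exists_coord (i := i)
      ((C.G.negr_pos_iff r).2 ((C.G.isNegRoot_iff_not_pos r).1 h1))
      (fun e => h2 (by rw [← e, C.G.negr_negr]))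
    rw [C.G.rho_negr, Pi.neg_apply] at hpos
    exact ⟨j, hj, by omega⟩
  · rintro ⟨j, hj, hneg⟩
    refine ⟨(C.G.isNegRoot_iff_not_pos r).2 fun h => ?_, fun e => ?_⟩
    · have := C.G.rho_nonneg h j; omega
    · rw [e, C.G.rho_negr, C.G.rho_simp, Pi.neg_apply, Pi.single_eq_of_ne hj] at hneg
      omega

theorem xu_conj_negEx (i : Fin D.rank) {r : Fin D.nroots}
    (hr : r = C.G.simp' i ∨ r = C.G.negr (C.G.simp' i)) (t : K) {v : GL D.Idx K}
    (hv : v ∈ RootGrp C.G K (NegEx C i)) :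
    C.G.xu r t * v * (C.G.xu r t)⁻¹ ∈ RootGrp C.G K (NegEx C i) := by
  induction hv using Subgroup.closure_induction with
  | one => simp
  | mul a b _ _ ha hb =>
    rw [show C.G.xu r t * (a * b) * (C.G.xu r t)⁻¹ =
      (C.G.xu r t * a * (C.G.xu r t)⁻¹) * (C.G.xu r t * b * (C.G.xu r t)⁻¹) by group]
    exact mul_mem ha hb
  | inv a _ ha =>
    rw [show C.G.xu r t * a⁻¹ * (C.G.xu r t)⁻¹ = (C.G.xu r t * a * (C.G.xu r t)⁻¹)⁻¹ by group]
    exact inv_mem ha
  | mem x hx =>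
    obtain ⟨s, u, hs, rfl⟩ := hx
    obtain ⟨j, hj, hneg⟩ := (negEx_coord C).1 hs
    have hrj : C.G.rho r j = 0 := by
      rcases hr with rfl | rfl
      · rw [C.G.rho_simp]; simp [hj]
      · rw [C.G.rho_negr, C.G.rho_simp]; simp [hj]
    have hsr : s ≠ r := fun e => by rw [e, hrj] at hneg; exact lt_irrefl _ hneg
    have hsn : s ≠ C.G.negr r := fun e => by
      rw [e, C.G.rho_negr, Pi.neg_apply, hrj, neg_zero] at hneg; exact lt_irrefl _ hneg
    obtain ⟨l, hl, e⟩ := C.conj_xu r s hsr hsn (-t) u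
    rw [C.G.xu_inv r (-t), neg_neg, ← C.G.xu_inv r t] at e
    rw [e]
    refine mul_mem (Subgroup.subset_closure ⟨s, u, hs, rfl⟩) (list_prod_mem fun y hy => ?_)
    obtain ⟨q, hq', rfl⟩ := List.mem_map.1 hy
    obtain ⟨a, b, -, hb, hq⟩ := hl q hq'
    refine Subgroup.subset_closure ⟨q.1, q.2, (negEx_coord C).2 ⟨j, hj, ?_⟩, rfl⟩
    rw [hq]
    simp only [Pi.add_apply, Pi.smul_apply, smul_eq_mul, hrj, mul_zero, zero_add]
    exact mul_neg_of_pos_of_neg (by exact_mod_cast hb) hneg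

theorem rootGrp_negEx_le (i : Fin D.rank) : RootGrp C.G K (NegEx C i) ≤ D.negUnipotent K := by
  rw [RootGrp, Subgroup.closure_le]
  rintro x ⟨r, t, hr, rfl⟩
  exact C.G.xu_mem_V hr.1 t

theorem eq_zero_of_mem_negEx (i : Fin D.rank) {t : K}
    (h : C.G.xu (C.G.negr (C.G.simp' i)) t ∈ RootGrp C.G K (NegEx C i)) : t = 0 := by
  have h1 := C.rootGrp_conj (C.G.nPerm_nU i) (T := NegEx C i) (fun r hr => by
    obtain ⟨j, hj, hneg⟩ := (negEx_coord C).1 hr
    refine (negEx_coord C).2 ⟨j, hj, ?_⟩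
    rw [C.G.sP_apply, C.G.rho_w, Pi.sub_apply, Pi.smul_apply, Pi.single_eq_of_ne hj, smul_zero,
      sub_zero]
    exact hneg) h
  obtain ⟨c, hc⟩ := C.G.nPerm_nU (K := K) i (C.G.negr (C.G.simp' i))
  rw [hc, C.G.sP_apply, C.G.w_negr, C.G.w_simp, C.G.negr_negr] at h1
  have h2 : C.G.xu (C.G.simp' i) ((c : K) * t) ∈ D.posUnipotent K ⊓ D.negUnipotent K :=
    Subgroup.mem_inf.2 ⟨C.G.xu_mem_U (C.G.simp_pos i) _, rootGrp_negEx_le C i h1⟩
  rw [C.G.U_inf_V_eq, Subgroup.mem_bot, C.G.xu_eq_one_iff] at h2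
  exact (mul_eq_zero.1 h2).resolve_left c.ne_zero

theorem eq_zero_of_mem_Uex (i : Fin D.rank) {t : K}
    (h : C.G.xu (C.G.simp' i) t ∈ (Uex C.G i : Subgroup (GL D.Idx K))) : t = 0 := by
  have h1 := C.G.nU_conj_Uex i _ h
  obtain ⟨c, hc⟩ := C.G.nPerm_nU (K := K) i (C.G.simp' i)
  rw [hc, C.G.sP_apply, C.G.w_simp] at h1
  have h2 : C.G.xu (C.G.negr (C.G.simp' i)) ((c : K) * t) ∈ D.posUnipotent K ⊓ D.negUnipotent K :=
    Subgroup.mem_inf.2 ⟨C.G.Uex_le i h1,
      C.G.xu_mem_V ((C.G.isNegRoot_iff_not_pos _).2 (C.G.negr_simp_not_pos i)) _⟩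
  rw [C.G.U_inf_V_eq, Subgroup.mem_bot, C.G.xu_eq_one_iff] at h2
  exact (mul_eq_zero.1 h2).resolve_left c.ne_zero

/-- The root homomorphism into the group. -/
noncomputable def rootHom (i : Fin D.rank) :
    Matrix.SpecialLinearGroup (Fin 2) K →* ↥(D.group K) :=
  ((C.G.sl2Fam (C.G.simp' i)).hom (C.G.sl2Fam_mult _)).codRestrict (D.group K) fun g => by
    have h : ((C.G.sl2Fam (C.G.simp' i)).hom (C.G.sl2Fam_mult _)).range ≤ D.group K := by
      rw [CfsgLib.Lie.SL2Rel.Fam.hom_range, Subgroup.closure_le]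
      rintro x (⟨t, rfl⟩ | ⟨t, rfl⟩) <;> exact C.G.xu_mem _ _
    exact h ⟨g, rfl⟩

theorem rootHom_el (i : Fin D.rank) (t : K) :
    ((rootHom C i (el 0 1 zero_ne_one_two t) : ↥(D.group K)) : GL D.Idx K) = C.G.xu (C.G.simp' i) t := by
  rw [show el 0 1 zero_ne_one_two t = CfsgLib.Lie.SL2Rel.Fam.upper t from Subtype.ext (by
    rw [el_val]; ext a b; fin_cases a <;> fin_cases b <;> simp [CfsgLib.Lie.SL2Rel.Fam.upper])]
  exact CfsgLib.Lie.SL2Rel.Fam.hom_upper (C.G.sl2Fam (C.G.simp' i)) (C.G.sl2Fam_mult _) t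

theorem rootHom_el' (i : Fin D.rank) (t : K) :
    ((rootHom C i (el 1 0 zero_ne_one_two.symm t) : ↥(D.group K)) : GL D.Idx K) =
      C.G.xu (C.G.negr (C.G.simp' i)) t := by
  rw [show el 1 0 zero_ne_one_two.symm t = CfsgLib.Lie.SL2Rel.Fam.lower t from Subtype.ext (by
    rw [el_val]; ext a b; fin_cases a <;> fin_cases b <;> simp [CfsgLib.Lie.SL2Rel.Fam.lower])]
  exact CfsgLib.Lie.SL2Rel.Fam.hom_lower (C.G.sl2Fam (C.G.simp' i)) (C.G.sl2Fam_mult _) t

theorem rootHom_tor (i : Fin D.rank) (b : Kˣ) :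
    ((rootHom C i (SL.tor 0 1 zero_ne_one_two (b : K)) : ↥(D.group K)) : GL D.Idx K) =
      C.G.hd (C.G.simp' i) b := by
  have hmon : ∀ c : K, ((rootHom C i (SL.mon 0 1 zero_ne_one_two c) : ↥(D.group K)) : GL D.Idx K) =
      C.G.nE (C.G.simp' i) (-c⁻¹) := fun c => by
    rw [SL.mon, map_mul, map_mul, Subgroup.coe_mul, Subgroup.coe_mul, rootHom_el, rootHom_el',
      Good.nE, inv_neg, inv_inv, neg_neg]
  rw [SL.tor, map_mul, Subgroup.coe_mul, hmon, hmon, inv_inv, inv_neg, inv_one, neg_neg]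
  have hb : C.G.nE (C.G.simp' i) (-(b : K)) = C.G.hd (C.G.simp' i) (-b) * C.G.nE (C.G.simp' i) 1 := by
    rw [← C.G.hE_eq, Good.hE, Units.val_neg, ← C.G.nE_inv, inv_mul_cancel_right]
  have h1 : C.G.nE (C.G.simp' i) (1 : K) * C.G.nE (C.G.simp' i) 1 = C.G.hd (C.G.simp' i) (-1) := by
    have h := C.G.hE_eq (C.G.simp' i) (-1 : Kˣ)
    rw [Good.hE, Units.val_neg, Units.val_one] at h
    rw [← inv_inj, mul_inv_rev, C.G.nE_inv, h, ← map_inv]
    congr 1
  rw [hb, mul_assoc, h1, ← map_mul]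
  congr 1
  simp

/-- A longest word. -/
noncomputable def longWord : List (Fin D.rank) := C.G.exists_longest.choose

theorem longWord_neg {r : Fin D.nroots} (hr : D.IsPosRoot r.val) :
    ¬ D.IsPosRoot (C.G.pw (longWord C) r).val := C.G.exists_longest.choose_spec r hr

theorem longWord_pos {r : Fin D.nroots} (hr : ¬ D.IsPosRoot r.val) :
    D.IsPosRoot (C.G.pw (longWord C) r).val := by
  have h := longWord_neg C ((C.G.negr_pos_iff r).2 hr)
  rwa [C.G.pw_negr, C.G.negr_pos_iff, not_not] at h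

theorem longWord_inv_neg {r : Fin D.nroots} (hr : D.IsPosRoot r.val) :
    ¬ D.IsPosRoot ((C.G.pw (longWord C))⁻¹ r).val := fun h => by
  have h2 := longWord_neg C h
  rw [show C.G.pw (longWord C) ((C.G.pw (longWord C))⁻¹ r) = r from
    (C.G.pw (longWord C)).apply_symm_apply r] at h2
  exact h2 hr

theorem longWord_inv_pos {r : Fin D.nroots} (hr : ¬ D.IsPosRoot r.val) :
    D.IsPosRoot ((C.G.pw (longWord C))⁻¹ r).val := by
  by_contra h
  have h2 := longWord_pos C h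
  rw [show C.G.pw (longWord C) ((C.G.pw (longWord C))⁻¹ r) = r from
    (C.G.pw (longWord C)).apply_symm_apply r] at h2
  exact hr h2

theorem mem_negUnipotent_iff (x : GL D.Idx K) :
    x ∈ D.negUnipotent K ↔
      (C.G.nw (longWord C))⁻¹ * x * C.G.nw (longWord C) ∈ D.posUnipotent K := by
  rw [C.G.negUnipotent_eq_closure, C.G.posUnipotent_eq_closure]
  constructor
  · intro hx
    have h := C.rootGrp_conj (Good.NPerm.inv C.G (C.G.nPerm_nw (longWord C)))
      (S := fun r => D.IsNegRoot r.val) (T := fun r => D.IsPosRoot r.val)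
      (fun r hr => longWord_inv_pos C ((C.G.isNegRoot_iff_not_pos r).1 hr)) hx
    rw [inv_inv] at h
    exact h
  · intro hx
    have h := C.rootGrp_conj (C.G.nPerm_nw (longWord C))
      (S := fun r => D.IsPosRoot r.val) (T := fun r => D.IsNegRoot r.val)
      (fun r hr => (C.G.isNegRoot_iff_not_pos _).2 (longWord_neg C hr)) hx
    rwa [show C.G.nw (longWord C) * ((C.G.nw (longWord C))⁻¹ * x * C.G.nw (longWord C)) *
      (C.G.nw (longWord C))⁻¹ = x by group] at h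

variable (D K) in
/-- The positive unipotent subgroup inside the group. -/
noncomputable abbrev UG : Subgroup ↥(D.group K) := (D.posUnipotent K).subgroupOf (D.group K)

variable (D K) in
/-- The diagonal subgroup inside the group. -/
noncomputable abbrev TG : Subgroup ↥(D.group K) := (D.diagonalSubgroup K).subgroupOf (D.group K)

/-- The longest element inside the group. -/
noncomputable def wG : ↥(D.group K) :=
  ⟨C.G.nw (longWord C), C.G.monomial_le_group (C.G.nw_mem_monomial _)⟩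

theorem bigCell : BigCell (UG D K) (TG D K) (wG C (K := K)) := by
  set n₀ : GL D.Idx K := C.G.nw (longWord C) with hn₀
  have hnorm := Subgroup.mem_normalizer_iff.1 (C.G.monomial_le_normalizer (K := K)
    (C.G.nw_mem_monomial (longWord C)))
  refine ⟨fun s hs t ht => Subtype.ext (C.G.diagonal_comm hs ht), fun t ht u hu => ?_, fun t ht => ?_,
    ?_, ?_, ?_⟩
  · exact (Subgroup.mem_normalizer_iff.1 (C.G.H_normalizes_U ht) _).1 hu
  · refine ⟨(hnorm _).1 ht, ?_⟩
    refine (hnorm _).2 ?_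
    show n₀ * (n₀⁻¹ * (t : GL D.Idx K) * n₀) * n₀⁻¹ ∈ D.diagonalSubgroup K
    rw [show n₀ * (n₀⁻¹ * (t : GL D.Idx K) * n₀) * n₀⁻¹ = t by group]
    exact ht
  · show n₀ * n₀ ∈ D.diagonalSubgroup K
    refine C.G.mem_H_of_nPerm_one (mul_mem (C.G.nw_mem_monomial _) (C.G.nw_mem_monomial _)) ?_
    have h := Good.NPerm.mul C.G (C.G.nPerm_nw (K := K) (longWord C)) (C.G.nPerm_nw (longWord C))
    rw [← C.G.pw_append] at h
    rw [C.G.pw_eq_one_of_pos _ (longWord C ++ longWord C) rfl fun j => ?_] at h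
    · exact h
    · rw [C.G.pw_append, Equiv.Perm.mul_apply]
      exact longWord_pos C (longWord_neg C (C.G.simp_pos j))
  · intro u hu t ht u' hu' v hv s hs v' hv' e
    have e' : u.1 * n₀ * t.1 * u'.1 = v.1 * n₀ * s.1 * v'.1 := congrArg Subtype.val e
    have h1 : (v.1)⁻¹ * u.1 = n₀ * (s.1 * v'.1 * (u'.1)⁻¹ * (t.1)⁻¹) * n₀⁻¹ := by
      calc (v.1)⁻¹ * u.1 = (v.1)⁻¹ * (u.1 * n₀ * t.1 * u'.1) * (u'.1)⁻¹ * (t.1)⁻¹ * n₀⁻¹ := by group
        _ = _ := by rw [e']; group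
    have h2 : s.1 * v'.1 * (u'.1)⁻¹ * (t.1)⁻¹ ∈ D.borelSubgroup K ⊓ D.negUnipotent K := by
      refine Subgroup.mem_inf.2 ⟨?_, ?_⟩
      · exact mul_mem (mul_mem (mul_mem (Subgroup.mem_sup_right hs) (Subgroup.mem_sup_left hv'))
          (inv_mem (Subgroup.mem_sup_left hu'))) (inv_mem (Subgroup.mem_sup_right ht))
      · rw [show s.1 * v'.1 * (u'.1)⁻¹ * (t.1)⁻¹ = n₀⁻¹ * ((v.1)⁻¹ * u.1) * n₀ by rw [h1]; group]
        have hvu : (v.1)⁻¹ * u.1 ∈ D.posUnipotent K := mul_mem (inv_mem hv) hu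
        rw [C.G.posUnipotent_eq_closure] at hvu
        rw [C.G.negUnipotent_eq_closure]
        have h := C.rootGrp_conj (Good.NPerm.inv C.G (C.G.nPerm_nw (longWord C)))
          (S := fun r => D.IsPosRoot r.val) (T := fun r => D.IsNegRoot r.val)
          (fun r hr => (C.G.isNegRoot_iff_not_pos _).2 (longWord_inv_neg C hr)) hvu
        rwa [inv_inv] at h
    rw [C.G.B_inf_V, Subgroup.mem_bot] at h2
    rw [h2, mul_one, mul_inv_cancel] at h1
    have huv : u = v := Subtype.ext (inv_mul_eq_one.1 h1).symm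
    have h3 : s.1 * v'.1 = t.1 * u'.1 := by
      rw [mul_inv_eq_one, mul_inv_eq_iff_eq_mul] at h2; exact h2
    have h4 : (t.1)⁻¹ * s.1 ∈ D.posUnipotent K ⊓ D.monomialSubgroup K :=
      Subgroup.mem_inf.2 ⟨by
        rw [show (t.1)⁻¹ * s.1 = (t.1)⁻¹ * (s.1 * v'.1) * (v'.1)⁻¹ by group, h3,
          show (t.1)⁻¹ * (t.1 * u'.1) * (v'.1)⁻¹ = u'.1 * (v'.1)⁻¹ by group]
        exact mul_mem hu' (inv_mem hv'),
      C.G.H_le_monomial (mul_mem (inv_mem ht) hs)⟩
    rw [C.G.U_inf_N, Subgroup.mem_bot, inv_mul_eq_one] at h4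
    refine ⟨huv, Subtype.ext h4, Subtype.ext ?_⟩
    rw [h4] at h3
    exact (mul_left_cancel h3).symm
  · intro g
    obtain ⟨b, hb, n, hn, π, hπ, u, hu, e⟩ := C.refined_exists g.2
    have huU : u ∈ D.posUnipotent K := C.G.Uinv_le π hu
    by_cases hall : ∀ r : Fin D.nroots, D.IsPosRoot r.val → ¬ D.IsPosRoot (π r).val
    · left
      obtain ⟨u₁, hu₁, h, hh, rfl⟩ := C.G.mem_borel_iff.1 hb
      obtain ⟨l, hl⟩ := C.G.exists_nPerm hn
      obtain rfl := Good.NPerm.unique C.G hπ hl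
      have hmem : n₀⁻¹ * (h * n) ∈ D.diagonalSubgroup K := by
        refine C.G.mem_H_of_nPerm_one (mul_mem (inv_mem (C.G.nw_mem_monomial _))
          (mul_mem (C.G.H_le_monomial hh) hn)) ?_
        have h' := Good.NPerm.mul C.G (Good.NPerm.inv C.G (C.G.nPerm_nw (K := K) (longWord C)))
          (Good.NPerm.mul C.G (C.G.nPerm_H hh) hπ)
        rw [one_mul, ← C.G.pw_reverse, ← C.G.pw_append] at h'
        rw [C.G.pw_eq_one_of_pos _ ((longWord C).reverse ++ l) rfl fun j => ?_] at h'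
        · exact h'
        · rw [C.G.pw_append, C.G.pw_reverse, Equiv.Perm.mul_apply]
          exact longWord_inv_pos C (hall _ (C.G.simp_pos j))
      refine ⟨⟨u₁, C.G.posUnipotent_le_group hu₁⟩, hu₁, ⟨_, C.G.diagonal_le_group hmem⟩, hmem,
        ⟨u, C.G.posUnipotent_le_group huU⟩, huU, Subtype.ext ?_⟩
      show g.1 = u₁ * n₀ * (n₀⁻¹ * (h * n)) * u
      rw [e]; group
    · right
      push Not at hall
      obtain ⟨r, hr, hπr⟩ := hall
      obtain ⟨c, hc⟩ := hπ r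
      obtain ⟨u₁, hu₁, h, hh, rfl⟩ := C.G.mem_borel_iff.1 hb
      obtain ⟨a, ha⟩ := C.G.H_conj_xu hh (π r)
      set q : GL D.Idx K := u₁ * C.G.xu (π r) ((a : K) * ((c : K) * 1)) * u₁⁻¹ with hq
      have hqU : q ∈ D.posUnipotent K := mul_mem (mul_mem hu₁ (C.G.xu_mem_U hπr _)) (inv_mem hu₁)
      refine ⟨⟨q, C.G.posUnipotent_le_group hqU⟩, hqU, fun h1 => ?_, ?_⟩
      · have h2 : q = 1 := congrArg Subtype.val h1
        rw [hq, conj_eq_one_iff, C.G.xu_eq_one_iff] at h2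
        simp at h2
      · show (g.1)⁻¹ * q * g.1 ∈ D.posUnipotent K
        have : (g.1)⁻¹ * q * g.1 = u⁻¹ * C.G.xu r 1 * u := by
          rw [e, hq, ← ha, ← hc]; group
        rw [this]
        exact mul_mem (mul_mem (inv_mem huU) (C.G.xu_mem_U hr 1)) huU

theorem triple_invariant [Fintype K] [Fintype ↥(D.group K)] [DecidableEq ↥(D.group K)]
    [Fintype (UG D K)] (p : ℕ) [Fact p.Prime] [CharP K p] (k : Type*) [Field k] [CharP k p]
    (i : Fin D.rank) (b : Kˣ) :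
    MonoidAlgebra.single (rootHom C i (SL.tor 0 1 zero_ne_one_two (b : K))) (1 : k) *
        triple k (UG D K) (wG C) = triple k (UG D K) (wG C) := by
  classical
  set P := (Uex C.G i : Subgroup (GL D.Idx K)).subgroupOf (D.group K) with hP
  set L := (RootGrp C.G K (NegEx C i)).subgroupOf (D.group K) with hL
  set V := (D.negUnipotent K).subgroupOf (D.group K) with hV
  have := Fintype.ofFinite P
  have := Fintype.ofFinite L
  have := Fintype.ofFinite V
  have hUgen : ∀ u ∈ D.posUnipotent K, ∃ v ∈ (Uex C.G i : Subgroup (GL D.Idx K)), ∃ t,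
      u = v * C.G.xu (C.G.simp' i) t := fun u hu => C.exists_Uex_mul i hu
  have hPle : P ≤ UG D K := fun x hx => C.G.Uex_le i hx
  refine triple_invariant_of_root p (rootHom C i) (U := UG D K) (w := wG C) (P := P) (L := L) (V := V)
    (fun x => mem_negUnipotent_iff C x.1) (fun t => ?_) hPle (fun t x hx => ?_) ?_ (fun t ht => ?_)
    (fun t => ?_) (fun x hx => rootGrp_negEx_le C i hx) (fun t x hx => ?_) ?_ (fun t ht => ?_)
    (fun t x hx => ?_) b.ne_zero (fun x => ?_)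
  · show ((rootHom C i _ : ↥(D.group K)) : GL D.Idx K) ∈ D.posUnipotent K
    rw [rootHom_el]; exact C.G.xu_mem_U (C.G.simp_pos i) t
  · show ((rootHom C i _ : ↥(D.group K)) : GL D.Idx K) * x.1 * ((rootHom C i _ : ↥(D.group K)) : GL D.Idx K)⁻¹ ∈ (Uex C.G i : Subgroup (GL D.Idx K))
    rw [rootHom_el]; exact C.xu_conj_Uex i (Or.inl rfl) t _ hx
  · intro u hu
    obtain ⟨v, hv, t, e⟩ := hUgen u.1 hu
    have : u = ⟨v, C.G.posUnipotent_le_group (C.G.Uex_le i hv)⟩ *
        rootHom C i (el 0 1 zero_ne_one_two t) := Subtype.ext (by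
      rw [Subgroup.coe_mul, rootHom_el]; exact e)
    rw [this]
    exact mul_mem (Subgroup.subset_closure (Or.inr hv)) (Subgroup.subset_closure (Or.inl ⟨t, rfl⟩))
  · have h : (rootHom C i (el 0 1 zero_ne_one_two t) : GL D.Idx K) ∈
        (Uex C.G i : Subgroup (GL D.Idx K)) := ht
    rw [rootHom_el] at h
    exact eq_zero_of_mem_Uex C i h
  · show ((rootHom C i _ : ↥(D.group K)) : GL D.Idx K) ∈ D.negUnipotent K
    rw [rootHom_el']
    exact C.G.xu_mem_V ((C.G.isNegRoot_iff_not_pos _).2 (C.G.negr_simp_not_pos i)) t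
  · show ((rootHom C i _ : ↥(D.group K)) : GL D.Idx K) * x.1 * ((rootHom C i _ : ↥(D.group K)) : GL D.Idx K)⁻¹ ∈ RootGrp C.G K (NegEx C i)
    rw [rootHom_el']; exact xu_conj_negEx C i (Or.inr rfl) t hx
  · intro v hv
    have hv' : v.1 ∈ D.negUnipotent K := hv
    rw [C.G.negUnipotent_eq_closure] at hv'
    have hle : Subgroup.closure {g : GL D.Idx K | ∃ r t, D.IsNegRoot (r : Fin D.nroots).val ∧ g = C.G.xu r t} ≤
        (Subgroup.closure (Set.range (fun t => rootHom C i (el 1 0 zero_ne_one_two.symm t)) ∪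
          (L : Set ↥(D.group K)))).map (D.group K).subtype := by
      rw [Subgroup.closure_le]
      rintro x ⟨r, t, hr, rfl⟩
      by_cases e : r = C.G.negr (C.G.simp' i)
      · exact ⟨_, Subgroup.subset_closure (Or.inl ⟨t, rfl⟩), by rw [Subgroup.subtype_apply, rootHom_el', e]⟩
      · exact ⟨⟨C.G.xu r t, C.G.xu_mem r t⟩,
          Subgroup.subset_closure (Or.inr (Subgroup.subset_closure ⟨r, t, ⟨hr, e⟩, rfl⟩)), rfl⟩
    obtain ⟨y, hy, e⟩ := hle hv'
    exact (Subtype.ext e : y = v) ▸ hy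
  · have h : (rootHom C i (el 1 0 zero_ne_one_two.symm t) : GL D.Idx K) ∈
        RootGrp C.G K (NegEx C i) := ht
    rw [rootHom_el'] at h
    exact eq_zero_of_mem_negEx C i h
  · show ((rootHom C i _ : ↥(D.group K)) : GL D.Idx K) * x.1 * ((rootHom C i _ : ↥(D.group K)) : GL D.Idx K)⁻¹ ∈ RootGrp C.G K (NegEx C i)
    rw [rootHom_el]; exact xu_conj_negEx C i (Or.inl rfl) t hx
  · show x.1 ∈ (Uex C.G i : Subgroup (GL D.Idx K)) ↔
      ((rootHom C i _ : ↥(D.group K)) : GL D.Idx K) * x.1 * ((rootHom C i _ : ↥(D.group K)) : GL D.Idx K)⁻¹ ∈ (Uex C.G i : Subgroup (GL D.Idx K))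
    rw [rootHom_tor]
    exact Subgroup.mem_normalizer_iff.1
      (C.G.H_le_normalizer (fun r => D.IsPosRoot r.val ∧ r ≠ C.G.simp' i) (C.G.hd_mem_H _ _)) x.1

theorem diag_le_closure_invariant [Fintype K] [Fintype ↥(D.group K)] [DecidableEq ↥(D.group K)]
    [Fintype (UG D K)] (p : ℕ) [Fact p.Prime] [CharP K p] (k : Type*) [Field k] [CharP k p] :
    TG D K ≤ Subgroup.closure {h | h ∈ TG D K ∧
      MonoidAlgebra.single h (1 : k) * triple k (UG D K) (wG C) = triple k (UG D K) (wG C)} := by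
  intro t ht
  have ht' : t.1 ∈ D.diagonalSubgroup K := ht
  rw [C.G.diagonal_eq_range] at ht'
  obtain ⟨c, hc⟩ := ht'
  rw [C.G.torθ_eq_prod] at hc
  have : t = ((List.finRange D.rank).map fun i =>
      rootHom C i (SL.tor 0 1 zero_ne_one_two ((c i : Kˣ) : K))).prod := by
    apply Subtype.ext
    rw [← hc, ← Subgroup.subtype_apply, map_list_prod, List.map_map]
    congr 1
    exact List.map_congr_left fun i _ => (rootHom_tor C i (c i)).symm
  rw [this]
  refine list_prod_mem fun x hx => ?_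
  obtain ⟨i, -, rfl⟩ := List.mem_map.1 hx
  refine Subgroup.subset_closure ⟨?_, triple_invariant C p k i (c i)⟩
  show ((rootHom C i _ : ↥(D.group K)) : GL D.Idx K) ∈ D.diagonalSubgroup K
  rw [rootHom_tor]
  exact C.G.hd_mem_H _ _

include C in
theorem isPGroup_UG [Fintype K] (p : ℕ) [Fact p.Prime] [CharP K p] : IsPGroup p (UG D K) := by
  obtain ⟨S, hS⟩ := C.exists_sylow (F := K) p
  have h := S.isPGroup'
  rwa [hS] at h

end CfsgLib.Block.DefiningChar.Chevalley
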