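import Cfsg.Agent.Lib.Block.DefiningChar.Idem
import Cfsg.Agent.Lib.Block.BlockCount
import Cfsg.Agent.Lib.Block.Deficiency
import Cfsg.Agent.Lib.Block.CoprimeCover

/-!
# Blocks in defining characteristic: defect zero or full, and their numbers
-/

open Finset MonoidAlgebra

set_option autoImplicit false
set_option linter.unusedSectionVars false

namespace CfsgLib.Block.DefiningChar

open Cfsg CfsgLib.Block

universe u

/-- Every non-trivial `p`-subgroup `D` lies in a `p`-subgroup `P` such that `D = P ⊓ P ^ x` for a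
`p`-regular `x` centralizing `D` forces `x` to be central. -/
def RadicalCentral (p : ℕ) (G : Type u) [Group G] : Prop :=
  ∀ D : Subgroup G, IsPGroup p D → D ≠ ⊥ → ∃ P : Subgroup G, IsPGroup p P ∧ D ≤ P ∧
    ∀ x : G, ¬ p ∣ orderOf x → (∀ u ∈ D, Commute u x) →
      P ⊓ P.map (MulAut.conj x).toMonoidHom = D → x ∈ Subgroup.center G

variable {G : Type u} [Group G] [Finite G] {p : ℕ} {M : Ideal AlgInt}

theorem centralizer_of_mem_center {x : G} (hx : x ∈ Subgroup.center G) :
    Subgroup.centralizer ({x} : Set G) = ⊤ :=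
  eq_top_iff.2 fun g _ => Subgroup.mem_centralizer_singleton_iff.2 (Subgroup.mem_center_iff.1 hx g)

theorem defect_zero_or_full (hM : IsPModular p M) (h : RadicalCentral p G)
    {B : Set (IrrCharacter G)} (hB : IsPBlock M B) :
    blockDefect p B = 0 ∨ blockDefect p B = (Nat.card G).factorization p := by
  classical
  have := hM.2.1
  have hpf : Fact p.Prime := ⟨hM.1⟩
  have := Fintype.ofFinite G
  have := Fintype.ofFinite (IrrCharacter G)
  obtain ⟨D, hD⟩ := exists_defectGroup hM hB
  have hcard := defectGroup_card hM hB hD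
  have hDp : IsPGroup p D := IsPGroup.of_card hcard
  rcases eq_or_ne D ⊥ with rfl | hne
  · rw [Subgroup.card_bot] at hcard
    exact Or.inl (Nat.pow_right_injective hM.1.two_le (hcard.symm.trans (pow_zero p).symm))
  · obtain ⟨P, hP, hDP, hPx⟩ := h D hDp hne
    obtain ⟨x, hx, hxD, hxe⟩ := exists_sylow_inf_conj_eq_defectGroup hM hB hD hP hDP
    right
    have hc := hxD.card_eq
    rw [centralizer_of_mem_center (hPx x hx hxD.commute hxe), Subgroup.card_top, hcard] at hc
    exact Nat.pow_right_injective hM.1.two_le hc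

theorem eq_one_of_coeffRes_ne_zero [Fintype G] [DecidableEq G] [M.IsMaximal] (hM : IsPModular p M)
    {B : Set (IrrCharacter G)} (hB : IsPBlock M B) (h0 : blockDefect p B = 0) {U : Subgroup G}
    (hU : IsPGroup p U) {x : G} (hx : coeffRes M B x ≠ 0) {q : G} (hq : q ∈ U) (hc : Commute q x) :
    q = 1 := by
  classical
  have hpf : Fact p.Prime := ⟨hM.1⟩
  have := Fintype.ofFinite (IrrCharacter G)
  obtain ⟨D, hD⟩ := exists_defectGroup hM hB
  have hcard := defectGroup_card hM hB hD
  rw [h0, pow_zero] at hcard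
  have h1 := (coeff_ne_zero_le_defect hM hB hD
    (hU.to_le (Subgroup.zpowers_le.2 hq)) hx
    (fun u hu => by obtain ⟨i, rfl⟩ := Subgroup.mem_zpowers_iff.1 hu; exact hc.zpow_left i)).card_le
  rw [hcard, Nat.card_zpowers] at h1
  exact orderOf_eq_one_iff.1 (le_antisymm h1 (orderOf_pos q))

theorem eq_of_defect_zero [Fintype G] [DecidableEq G] [M.IsMaximal] (hM : IsPModular p M)
    {U T : Subgroup G} [Fintype U] [Fintype T] {w : G} (hc : BigCell U T w) (hU : IsPGroup p U)
    (hgen : T ≤ Subgroup.closure {h | h ∈ T ∧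
      single h (1 : ResField M) * triple (ResField M) U w = triple (ResField M) U w})
    {B B' : Set (IrrCharacter G)} (hB : IsPBlock M B) (hB' : IsPBlock M B')
    (h0 : blockDefect p B = 0) (h0' : blockDefect p B' = 0) : B = B' := by
  classical
  have hpf : Fact p.Prime := ⟨hM.1⟩
  have := charP_resField hM
  have := Fintype.ofFinite (IrrCharacter G)
  by_contra hne
  have hz : ∀ {C : Set (IrrCharacter G)}, IsPBlock M C →
      (blockBar M C : MonoidAlgebra (ResField M) G) ≠ 0 := by
    intro C hC h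
    obtain ⟨χ, hχ⟩ := isPBlock_nonempty hC
    have h1 := omegaBar_blockBar hM (.of_isPBlock hC) χ
    rw [show blockBar M C = 0 from Subtype.ext h, map_zero, if_pos hχ] at h1
    exact zero_ne_one h1
  rcases eq_zero_or_eq_zero (p := p) hc hU (mem_center_iff_isClassElt.mp (blockBar M B).2)
    (mem_center_iff_isClassElt.mp (blockBar M B').2)
    (congrArg Subtype.val (blockBar_mul_self hM (.of_isPBlock hB)))
    (congrArg Subtype.val (blockBar_mul_self hM (.of_isPBlock hB')))
    (congrArg Subtype.val (CoprimeCover.blockBar_mul_of_ne hM hB hB' hne))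
    (fun x hx q hq hqx => eq_one_of_coeffRes_ne_zero hM hB h0 hU (by rwa [coeff_blockBar] at hx) hq hqx)
    (fun x hx q hq hqx => eq_one_of_coeffRes_ne_zero hM hB' h0' hU (by rwa [coeff_blockBar] at hx) hq hqx)
    hgen with h | h
  · exact hz hB h
  · exact hz hB' h

theorem isRegClassGE_iff_mem_center (hp : p.Prime) (h : RadicalCentral p G) (hpG : p ∣ Nat.card G)
    (x : G) :
    IsRegClassGE p ((Nat.card G).factorization p) x ↔ x ∈ Subgroup.center G ∧ ¬ p ∣ orderOf x := by
  classical
  have : Fact p.Prime := ⟨hp⟩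
  constructor
  · rintro ⟨hx, hle⟩
    obtain ⟨P, hP⟩ := exists_isSylowCent (G := G) p x
    have hcard : Nat.card P = p ^ (Nat.card G).factorization p := by
      rw [hP.card_eq]
      refine congrArg _ (le_antisymm ?_ hle)
      exact (Nat.factorization_le_iff_dvd Nat.card_pos.ne' Nat.card_pos.ne').2
        (Subgroup.card_subgroup_dvd_card _) p
    have hne : P ≠ ⊥ := fun e => by
      rw [e, Subgroup.card_bot] at hcard
      exact hpG |> fun hd => (hp.factorization_pos_of_dvd Nat.card_pos.ne' hd).ne'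
        (Nat.pow_right_injective hp.two_le (hcard.symm.trans (pow_zero p).symm))
    obtain ⟨Q, hQ, hPQ, hQx⟩ := h P hP.isPGroup hne
    have hQe : Q = P := by
      refine (Subgroup.eq_of_le_of_card_ge hPQ ?_).symm
      obtain ⟨m, hm⟩ := IsPGroup.iff_card.1 hQ
      have hdvd : p ^ m ∣ Nat.card G := hm ▸ Subgroup.card_subgroup_dvd_card Q
      rw [hm, hcard]
      exact Nat.pow_le_pow_right hp.pos ((hp.pow_dvd_iff_le_factorization Nat.card_pos.ne').1 hdvd)
    refine ⟨hQx x hx hP.commute ?_, hx⟩
    rw [hQe]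
    refine le_antisymm inf_le_left (le_inf le_rfl fun d hd => ⟨d, hd, ?_⟩)
    show x * d * x⁻¹ = d
    rw [← (hP.commute d hd).eq, mul_inv_cancel_right]
  · rintro ⟨hc, hx⟩
    exact ⟨hx, by rw [centralizer_of_mem_center hc, Subgroup.card_top]⟩

theorem card_full_defect_blocks (hM : IsPModular p M) (h : RadicalCentral p G)
    (hpG : p ∣ Nat.card G) (hpZ : ¬ p ∣ Nat.card (Subgroup.center G)) :
    Nat.card {B : Set (IrrCharacter G) //
      IsPBlock M B ∧ blockDefect p B = (Nat.card G).factorization p} =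
      Nat.card (Subgroup.center G) := by
  classical
  have := hM.2.1
  have hpf : Fact p.Prime := ⟨hM.1⟩
  have := Fintype.ofFinite G
  have hle : ∀ B : Set (IrrCharacter G), blockDefect p B ≤ (Nat.card G).factorization p :=
    fun B => Nat.sub_le _ _
  rw [show Nat.card {B : Set (IrrCharacter G) //
      IsPBlock M B ∧ blockDefect p B = (Nat.card G).factorization p} =
    Nat.card {B : Set (IrrCharacter G) //
      IsPBlock M B ∧ (Nat.card G).factorization p ≤ blockDefect p B} from
    Nat.card_congr (Equiv.subtypeEquivRight fun B =>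
      ⟨fun hB => ⟨hB.1, hB.2.ge⟩, fun hB => ⟨hB.1, le_antisymm (hle B) hB.2⟩⟩),
    card_blocks_full_defect_eq hM]
  have hmem : ∀ C : ConjClasses G, IsRegClassGE p ((Nat.card G).factorization p) (rep C) →
      rep C ∈ Subgroup.center G := fun C hC => ((isRegClassGE_iff_mem_center hM.1 h hpG _).1 hC).1
  refine Nat.card_congr (Equiv.ofBijective
    (fun C => (⟨rep C.1, hmem C.1 C.2⟩ : Subgroup.center G)) ⟨?_, ?_⟩)
  · intro C C' e
    exact Subtype.ext (by rw [← mk_rep C.1, ← mk_rep C'.1]; exact congrArg ConjClasses.mk (congrArg Subtype.val e))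
  · intro z
    have hz : rep (ConjClasses.mk (z : G)) = z := by
      obtain ⟨c, hc⟩ := isConj_iff.1 (isConj_rep (z : G)).symm
      rw [← hc, Subgroup.mem_center_iff.1 z.2 c, mul_inv_cancel_right]
    refine ⟨⟨ConjClasses.mk (z : G), ?_⟩, Subtype.ext hz⟩
    rw [hz]
    refine (isRegClassGE_iff_mem_center hM.1 h hpG _).2 ⟨z.2, fun hd => hpZ (hd.trans ?_)⟩
    rw [Subgroup.orderOf_coe]
    exact orderOf_dvd_natCard z

theorem card_blocks (hM : IsPModular p M) (h : RadicalCentral p G)
    (hpG : p ∣ Nat.card G) (hpZ : ¬ p ∣ Nat.card (Subgroup.center G))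
    (hone : Nat.card {B : Set (IrrCharacter G) // IsPBlock M B ∧ blockDefect p B = 0} = 1) :
    Nat.card {B : Set (IrrCharacter G) // IsPBlock M B} = Nat.card (Subgroup.center G) + 1 := by
  classical
  have := Fintype.ofFinite (IrrCharacter G)
  have := Fintype.ofFinite {B : Set (IrrCharacter G) // IsPBlock M B}
  have hpos : 0 < (Nat.card G).factorization p :=
    hM.1.factorization_pos_of_dvd Nat.card_pos.ne' hpG
  rw [← card_full_defect_blocks hM h hpG hpZ, ← hone, ← Nat.card_sum]
  refine (Nat.card_congr ?_).symm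
  refine Equiv.ofBijective (Sum.elim (fun B => ⟨B.1, B.2.1⟩) (fun B => ⟨B.1, B.2.1⟩)) ⟨?_, ?_⟩
  · rintro (B | B) (B' | B') e <;> simp only [Sum.elim_inl, Sum.elim_inr, Subtype.mk.injEq] at e
    · exact congrArg Sum.inl (Subtype.ext e)
    · have h1 := B.2.2; have h2 := B'.2.2; rw [e] at h1; omega
    · have h1 := B.2.2; have h2 := B'.2.2; rw [e] at h1; omega
    · exact congrArg Sum.inr (Subtype.ext e)
  · rintro ⟨B, hB⟩
    rcases defect_zero_or_full hM h hB with h0 | h0
    · exact ⟨Sum.inr ⟨B, hB, h0⟩, rfl⟩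
    · exact ⟨Sum.inl ⟨B, hB, h0⟩, rfl⟩

/-- A character of degree divisible by the full `p`-part of the order makes a block of defect zero. -/
theorem exists_defect_zero_of_degree (hM : IsPModular p M) {χ : IrrCharacter G} {B : Set (IrrCharacter G)}
    (hB : B = blockOf M (χ : G → ℂ)) (hs : B = {χ})
    (hdeg : (charDegree (χ : G → ℂ)).factorization p = (Nat.card G).factorization p) :
    IsPBlock M B ∧ blockDefect p B = 0 := by
  refine ⟨⟨χ, hB⟩, ?_⟩
  rw [blockDefect, hs, Set.image_singleton, csInf_singleton, hdeg, Nat.sub_self]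

end CfsgLib.Block.DefiningChar
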