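import Cfsg.Agent.Lib.Block.Green

/-!
# Orthogonal central idempotents and a big cell

In a finite group with subgroups `U` (a `p`-group), `T` (abelian, normalizing `U`) and an element
`w` such that every element outside `U w T U` has two conjugate non-trivial traces on `U`, two
orthogonal central idempotents of characteristic `p` with support on elements of `p`-prime
centralizer cannot both be non-zero, once the double coset sum of `U, U^w, U` is invariant under `T`.
-/

open Finset MonoidAlgebra

set_option autoImplicit false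
set_option linter.unusedSectionVars false

namespace CfsgLib.Block.DefiningChar

open CfsgLib.Block

variable {k : Type*} [Field k] {G : Type*} [Group G] [Fintype G] [DecidableEq G]

/-- The sum in the group algebra of the values of a family of group elements. -/
noncomputable def gs (k : Type*) [CommRing k] {G : Type*} [Group G] {ι : Type*} [Fintype ι]
    (f : ι → G) : MonoidAlgebra k G := ∑ i, single (f i) (1 : k)

theorem gs_equiv {ι κ : Type*} [Fintype ι] [Fintype κ] (e : ι ≃ κ) (f : κ → G) :
    gs k (fun i => f (e i)) = gs k f :=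
  e.sum_comp fun j => single (f j) (1 : k)

theorem gs_congr {ι κ : Type*} [Fintype ι] [Fintype κ] (e : ι ≃ κ) {f : ι → G} {f' : κ → G}
    (h : ∀ i, f' (e i) = f i) : gs k f = gs k f' := by
  rw [← gs_equiv e f']; exact Finset.sum_congr rfl fun i _ => by simp only [h]

theorem gs_mul {ι κ : Type*} [Fintype ι] [Fintype κ] (f : ι → G) (f' : κ → G) :
    gs k f * gs k f' = gs k (fun x : ι × κ => f x.1 * f' x.2) := by
  simp only [gs, Finset.sum_mul_sum, MonoidAlgebra.single_mul_single, mul_one,
    Fintype.sum_prod_type]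

theorem single_mul_gs {ι : Type*} [Fintype ι] (g : G) (f : ι → G) :
    single g (1 : k) * gs k f = gs k (fun i => g * f i) := by
  simp only [gs, Finset.mul_sum, MonoidAlgebra.single_mul_single, mul_one]

theorem gs_mul_single {ι : Type*} [Fintype ι] (g : G) (f : ι → G) :
    gs k f * single g (1 : k) = gs k (fun i => f i * g) := by
  simp only [gs, Finset.sum_mul, MonoidAlgebra.single_mul_single, mul_one]

theorem coeff_gs_of_injective {ι : Type*} [Fintype ι] {f : ι → G} (hf : Function.Injective f)
    (i : ι) : (gs k f).coeff (f i) = 1 := by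
  classical
  rw [gs, coeff_sum_apply, Finset.sum_eq_single i] <;>
    simp +contextual [MonoidAlgebra.coeff_single, Finsupp.single_apply, hf.eq_iff]

theorem coeff_gs_of_forall_ne {ι : Type*} [Fintype ι] {f : ι → G} {g : G} (h : ∀ i, f i ≠ g) :
    (gs k f).coeff g = 0 := by
  classical
  rw [gs, coeff_sum_apply]
  exact Finset.sum_eq_zero fun i _ => by simp [MonoidAlgebra.coeff_single, Finsupp.single_apply, h i]

/-- A big cell `U w T U` of a finite group. -/
structure BigCell (U T : Subgroup G) (w : G) : Prop where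
  comm : ∀ s ∈ T, ∀ t ∈ T, Commute s t
  norm : ∀ t ∈ T, ∀ u ∈ U, t * u * t⁻¹ ∈ U
  conjT : ∀ t ∈ T, w * t * w⁻¹ ∈ T ∧ w⁻¹ * t * w ∈ T
  sqT : w * w ∈ T
  inj : ∀ u ∈ U, ∀ t ∈ T, ∀ u' ∈ U, ∀ v ∈ U, ∀ s ∈ T, ∀ v' ∈ U,
    u * w * t * u' = v * w * s * v' → u = v ∧ t = s ∧ u' = v'
  cover : ∀ g : G, (∃ u ∈ U, ∃ t ∈ T, ∃ u' ∈ U, g = u * w * t * u') ∨
    ∃ q ∈ U, q ≠ 1 ∧ g⁻¹ * q * g ∈ U

variable {U T : Subgroup G} [Fintype U] [Fintype T] {w : G}

variable (k U w) in
/-- The sum of `U`, its conjugate by `w`, and `U`. -/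
noncomputable def triple : MonoidAlgebra k G :=
  gs k ((↑) : U → G) * gs k (fun u : U => w * (u : G) * w⁻¹) * gs k ((↑) : U → G)

variable (k U w) in
/-- The double coset sum of `w t`. -/
noncomputable def cellSum (t : G) : MonoidAlgebra k G :=
  gs k ((↑) : U → G) * single (w * t) 1 * gs k ((↑) : U → G)

theorem cellSum_eq (t : G) :
    cellSum k U w t = gs k (fun x : U × U => (x.1 : G) * w * t * (x.2 : G)) := by
  rw [cellSum, gs_mul_single, gs_mul]
  simp only [mul_assoc]

theorem cellSum_coeff_cell (hc : BigCell U T w) {t : G} (ht : t ∈ T) {u u' : G} (hu : u ∈ U)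
    (hu' : u' ∈ U) {s : G} (hs : s ∈ T) :
    (cellSum k U w t).coeff (u * w * s * u') = if t = s then 1 else 0 := by
  rw [cellSum_eq]
  split_ifs with h
  · subst h
    exact coeff_gs_of_injective (f := fun x : U × U => (x.1 : G) * w * t * (x.2 : G))
      (fun x y hxy => by
        obtain ⟨h1, -, h3⟩ := hc.inj _ x.1.2 _ ht _ x.2.2 _ y.1.2 _ ht _ y.2.2 hxy
        exact Prod.ext (Subtype.ext h1) (Subtype.ext h3)) (⟨u, hu⟩, ⟨u', hu'⟩)
  · exact coeff_gs_of_forall_ne fun x hx =>
      h (hc.inj _ x.1.2 _ ht _ x.2.2 _ hu _ hs _ hu' hx).2.1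

theorem single_mul_sumU (hc : BigCell U T w) {t : G} (ht : t ∈ T) :
    single t (1 : k) * gs k ((↑) : U → G) = gs k ((↑) : U → G) * single t 1 := by
  rw [single_mul_gs, gs_mul_single]
  refine gs_congr
    { toFun := fun u : U => ⟨t * u * t⁻¹, hc.norm t ht u u.2⟩
      invFun := fun u : U => ⟨t⁻¹ * u * t, by simpa using hc.norm t⁻¹ (inv_mem ht) u u.2⟩
      left_inv := fun u => Subtype.ext (by simp [mul_assoc])
      right_inv := fun u => Subtype.ext (by simp [mul_assoc]) } fun u => ?_
  show t * u * t⁻¹ * t = t * u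
  rw [inv_mul_cancel_right]

variable {p : ℕ} [Fact p.Prime] [CharP k p]

theorem mul_sumU_coeff (e : MonoidAlgebra k G) (g : G) :
    (e * gs k ((↑) : U → G)).coeff g = ∑ u : U, e.coeff (g * u) := by
  rw [gs, Finset.mul_sum, coeff_sum_apply]
  simp only [coeff_mul_single', mul_one]
  exact Fintype.sum_equiv (Equiv.inv U) _ _ fun u => by simp

theorem mul_sumU_coeff_eq_zero (hU : IsPGroup p U) {e : MonoidAlgebra k G} (he : IsClassElt e)
    (hsupp : ∀ x, e.coeff x ≠ 0 → ∀ q ∈ U, Commute q x → q = 1) {g q : G} (hq : q ∈ U)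
    (hq1 : q ≠ 1) (hgq : g⁻¹ * q * g ∈ U) : (e * gs k ((↑) : U → G)).coeff g = 0 := by
  classical
  let Q : Subgroup G :=
    { carrier := {a | a ∈ U ∧ g⁻¹ * a * g ∈ U}
      one_mem' := ⟨U.one_mem, by simp⟩
      mul_mem' := fun {a b} ha hb => ⟨U.mul_mem ha.1 hb.1, by
        have := U.mul_mem ha.2 hb.2
        rwa [show g⁻¹ * a * g * (g⁻¹ * b * g) = g⁻¹ * (a * b) * g by group] at this⟩
      inv_mem' := fun {a} ha => ⟨U.inv_mem ha.1, by
        have := U.inv_mem ha.2
        rwa [show (g⁻¹ * a * g)⁻¹ = g⁻¹ * a⁻¹ * g by group] at this⟩ }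
  letI : MulAction Q U :=
    { smul := fun a u => ⟨g⁻¹ * a * g * u * (a : G)⁻¹,
        U.mul_mem (U.mul_mem a.2.2 u.2) (U.inv_mem a.2.1)⟩
      one_smul := fun u => Subtype.ext (show g⁻¹ * (1 : G) * g * u * (1 : G)⁻¹ = u by simp)
      mul_smul := fun a b u => Subtype.ext
        (show g⁻¹ * ((a : G) * b) * g * u * ((a : G) * b)⁻¹ =
          g⁻¹ * a * g * (g⁻¹ * b * g * u * (b : G)⁻¹) * (a : G)⁻¹ by group) }
  have hsm : ∀ (a : Q) (u : U), g * ((a • u : U) : G) = a * (g * u) * (a : G)⁻¹ := fun a u => by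
    show g * (g⁻¹ * a * g * u * (a : G)⁻¹) = _
    group
  rw [mul_sumU_coeff, sum_eq_sum_fixedPoints (p := p) (hU.to_le (fun a ha => ha.1 : Q ≤ U))
    (fun u : U => e.coeff (g * u)) (fun a u => by rw [hsm]; exact he _ _)]
  refine Finset.sum_eq_zero fun u hu => ?_
  by_contra hne
  have hfix := congrArg (fun v : U => g * (v : G))
    ((Finset.mem_filter.1 hu).2 ⟨q, hq, hgq⟩)
  simp only [hsm] at hfix
  exact hq1 (hsupp _ hne q hq (mul_inv_eq_iff_eq_mul.1 hfix))

theorem mul_sumU_left {e : MonoidAlgebra k G} (he : IsClassElt e) {u : G} (hu : u ∈ U) (g : G) :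
    (e * gs k ((↑) : U → G)).coeff (u * g) = (e * gs k ((↑) : U → G)).coeff g := by
  have h : single u (1 : k) * (e * gs k ((↑) : U → G)) = e * gs k ((↑) : U → G) := by
    rw [← mul_assoc, ((isClassElt_iff e).1 he u).eq, mul_assoc, single_mul_gs]
    congr 1
    exact gs_congr (Equiv.mulLeft (⟨u, hu⟩ : U)) fun v => rfl
  conv_lhs => rw [← h]
  rw [coeff_single_mul', one_mul, inv_mul_cancel_left]

theorem mul_sumU_right (e : MonoidAlgebra k G) {u : G} (hu : u ∈ U) (g : G) :
    (e * gs k ((↑) : U → G)).coeff (g * u) = (e * gs k ((↑) : U → G)).coeff g := by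
  simp only [mul_sumU_coeff]
  exact Fintype.sum_equiv (Equiv.mulLeft (⟨u, hu⟩ : U)) _ _ fun v => by simp [mul_assoc]

/-- The big cell expansion. -/
theorem mul_sumU_eq (hc : BigCell U T w) (hU : IsPGroup p U) {e : MonoidAlgebra k G}
    (he : IsClassElt e) (hsupp : ∀ x, e.coeff x ≠ 0 → ∀ q ∈ U, Commute q x → q = 1) :
    e * gs k ((↑) : U → G) =
      ∑ t : T, (e * gs k ((↑) : U → G)).coeff (w * t) • cellSum k U w t := by
  classical
  refine ga_ext fun g => ?_
  rw [coeff_sum_apply]
  rcases hc.cover g with ⟨u, hu, s, hs, u', hu', rfl⟩ | ⟨q, hq, hq1, hgq⟩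
  · rw [Finset.sum_eq_single (⟨s, hs⟩ : T)]
    · rw [MonoidAlgebra.coeff_smul, Finsupp.smul_apply, cellSum_coeff_cell hc hs hu hu' hs,
        if_pos rfl, smul_eq_mul, mul_one, mul_sumU_right e hu', mul_assoc, mul_sumU_left he hu]
    · intro t _ ht
      rw [MonoidAlgebra.coeff_smul, Finsupp.smul_apply, cellSum_coeff_cell hc t.2 hu hu' hs,
        if_neg fun h => ht (Subtype.ext h), smul_zero]
    · simp
  · rw [mul_sumU_coeff_eq_zero hU he hsupp hq hq1 hgq, eq_comm]
    refine Finset.sum_eq_zero fun t _ => ?_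
    rw [MonoidAlgebra.coeff_smul, Finsupp.smul_apply]
    by_cases hcell : ∃ x : U × U, (x.1 : G) * w * t * (x.2 : G) = g
    · obtain ⟨⟨u, u'⟩, rfl⟩ := hcell
      have h1 := mul_sumU_coeff_eq_zero hU he hsupp hq hq1 hgq
      rw [mul_sumU_right e u'.2, mul_assoc, mul_sumU_left he u.2] at h1
      rw [h1, zero_smul]
    · push Not at hcell
      rw [cellSum_eq, coeff_gs_of_forall_ne hcell, smul_zero]

theorem single_comm_of_mem (hc : BigCell U T w) {s t : G} (hs : s ∈ T) (ht : t ∈ T) :
    single s (1 : k) * single t 1 = single t 1 * single s 1 := by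
  rw [MonoidAlgebra.single_mul_single, MonoidAlgebra.single_mul_single, (hc.comm s hs t ht).eq]

/-- The image of a supported central idempotent is left invariant under the elements fixing the
triple sum. -/
theorem coeff_shift (hc : BigCell U T w) (hU : IsPGroup p U) {e : MonoidAlgebra k G}
    (he : IsClassElt e) (hee : e * e = e)
    (hsupp : ∀ x, e.coeff x ≠ 0 → ∀ q ∈ U, Commute q x → q = 1) {h : G} (hh : h ∈ T)
    (hinv : single h (1 : k) * triple k U w = triple k U w) (t : T) :
    (e * gs k ((↑) : U → G)).coeff (w * ((w⁻¹ * h * w) * t)) =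
      (e * gs k ((↑) : U → G)).coeff (w * t) := by
  classical
  set N := gs k ((↑) : U → G) with hN
  set E := e * N with hE
  set c : T → k := fun s => E.coeff (w * s) with hcdef
  have hexp : E = ∑ s : T, c s • (N * single (w * (s : G)) 1 * N) := mul_sumU_eq hc hU he hsupp
  have hsE : single h (1 : k) * E = E := by
    have h1 : E = ∑ s : T, c s • (E * (single (w * (s : G)) 1 * N)) := by
      conv_lhs => rw [hE, ← hee, mul_assoc, ← hE, hexp, Finset.mul_sum]
      refine Finset.sum_congr rfl fun s _ => ?_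
      rw [mul_smul_comm, hE]
      simp only [mul_assoc]
    have h2 : ∀ s r : T, single h (1 : k) * (N * single (w * (r : G)) 1 * N * (single (w * (s : G)) 1 * N)) =
        N * single (w * (r : G)) 1 * N * (single (w * (s : G)) 1 * N) := by
      intro s r
      obtain ⟨hr1, -⟩ := hc.conjT r r.2
      have key : N * single (w * (r : G)) 1 * N * (single (w * (s : G)) 1 * N) =
          triple k U w * single (w * r * w⁻¹ * (w * w) * s) 1 := by
        have e1 : (gs k fun u : U => w * (u : G) * w⁻¹) =
            single w (1 : k) * N * single w⁻¹ 1 := by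
          rw [hN, single_mul_gs, gs_mul_single]
        have e2 : single (w * r * w⁻¹ * (w * w) * (s : G)) (1 : k) =
            single w 1 * (single (r : G) 1 * single (w * (s : G)) 1) := by
          simp only [MonoidAlgebra.single_mul_single, mul_one]
          congr 1; group
        have hT : w * r * w⁻¹ * (w * w) * (s : G) ∈ T := T.mul_mem (T.mul_mem hr1 hc.sqT) s.2
        have e3 : single w⁻¹ (1 : k) * single w 1 = 1 := by
          rw [MonoidAlgebra.single_mul_single, inv_mul_cancel, mul_one]; rfl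
        have e4 : single (w * (r : G)) (1 : k) * N = single w 1 * (N * single (r : G) 1) := by
          rw [hN, ← single_mul_sumU hc r.2, ← mul_assoc, MonoidAlgebra.single_mul_single, mul_one]
        have e5 : N * single (w * r * w⁻¹ * (w * w) * (s : G)) 1 =
            single (w * r * w⁻¹ * (w * w) * (s : G)) 1 * N := (single_mul_sumU hc hT).symm
        calc N * single (w * (r : G)) 1 * N * (single (w * (s : G)) 1 * N)
            = N * (single (w * (r : G)) 1 * N) * (single (w * (s : G)) 1 * N) := by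
              simp only [mul_assoc]
          _ = N * single w 1 * N * 1 * single (r : G) 1 * single (w * (s : G)) 1 * N := by
              rw [e4]; simp only [mul_assoc, one_mul]
          _ = N * (single w 1 * N * single w⁻¹ 1) *
              (single w 1 * (single (r : G) 1 * single (w * (s : G)) 1) * N) := by
              rw [← e3]; simp only [mul_assoc]
          _ = triple k U w * single (w * r * w⁻¹ * (w * w) * s) 1 := by
              rw [← e2, ← e5, ← e1, triple, ← hN]
              simp only [mul_assoc]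
      rw [key, ← mul_assoc, hinv]
    have h3 : ∀ s : T, single h (1 : k) * (E * (single (w * (s : G)) 1 * N)) =
        E * (single (w * (s : G)) 1 * N) := by
      intro s
      rw [hexp, Finset.sum_mul, Finset.mul_sum]
      exact Finset.sum_congr rfl fun r _ => by rw [smul_mul_assoc, mul_smul_comm, h2]
    rw [h1, Finset.mul_sum]
    exact Finset.sum_congr rfl fun s _ => by rw [mul_smul_comm, h3]
  conv_lhs => rw [← hsE]
  rw [coeff_single_mul', one_mul]
  congr 1
  group

/-- Two orthogonal central idempotents supported on elements with centralizer meeting `U` trivially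
are not both non-zero. -/
theorem eq_zero_or_eq_zero (hc : BigCell U T w) (hU : IsPGroup p U) {e e' : MonoidAlgebra k G}
    (he : IsClassElt e) (he' : IsClassElt e') (hee : e * e = e) (hee' : e' * e' = e')
    (hoe : e * e' = 0)
    (hsupp : ∀ x, e.coeff x ≠ 0 → ∀ q ∈ U, Commute q x → q = 1)
    (hsupp' : ∀ x, e'.coeff x ≠ 0 → ∀ q ∈ U, Commute q x → q = 1)
    (hgen : T ≤ Subgroup.closure {h | h ∈ T ∧ single h (1 : k) * triple k U w = triple k U w}) :
    e = 0 ∨ e' = 0 := by
  classical
  set N := gs k ((↑) : U → G) with hN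
  have const : ∀ {a : MonoidAlgebra k G}, IsClassElt a → a * a = a →
      (∀ x, a.coeff x ≠ 0 → ∀ q ∈ U, Commute q x → q = 1) →
      a * N = (a * N).coeff w • ∑ t : T, cellSum k U w t := by
    intro a ha haa hs
    let S : Subgroup G :=
      { carrier := {h | h ∈ T ∧ ∀ t : T, (a * N).coeff (w * ((w⁻¹ * h * w) * t)) = (a * N).coeff (w * t)}
        one_mem' := ⟨T.one_mem, fun t => by simp⟩
        mul_mem' := fun {x y} hx hy => ⟨T.mul_mem hx.1 hy.1, fun t => by
          have h2 := hx.2 ⟨(w⁻¹ * y * w) * t, T.mul_mem (hc.conjT y hy.1).2 t.2⟩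
          rw [← hy.2 t, ← h2]
          congr 1
          show _ = w * ((w⁻¹ * x * w) * ((w⁻¹ * y * w) * t))
          group⟩
        inv_mem' := fun {x} hx => ⟨T.inv_mem hx.1, fun t => by
          have h2 := hx.2 ⟨(w⁻¹ * x⁻¹ * w) * t,
            T.mul_mem (hc.conjT _ (T.inv_mem hx.1)).2 t.2⟩
          rw [← h2]
          congr 1
          show w * ((w⁻¹ * x * w) * ((w⁻¹ * x⁻¹ * w) * t)) = w * t
          group⟩ }
    have hST : T ≤ S := hgen.trans ((Subgroup.closure_le S).2 fun h hh =>
      ⟨hh.1, coeff_shift hc hU ha haa hs hh.1 hh.2⟩)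
    conv_lhs => rw [hN, mul_sumU_eq hc hU ha hs, ← hN]
    rw [Finset.smul_sum]
    refine Finset.sum_congr rfl fun t _ => ?_
    congr 1
    have h2 := (hST (hc.conjT t t.2).1).2 1
    rw [OneMemClass.coe_one, mul_one w] at h2
    rw [← h2]
    congr 1
    simp [mul_assoc]
  have h1 := const he hee hsupp
  have h2 := const he' hee' hsupp'
  set Z := ∑ t : T, cellSum k U w t
  by_cases hc0 : (e' * N).coeff w = 0
  · right
    rw [hc0, zero_smul] at h2
    refine eq_zero_of_cosetSums_of_idem (p := p) hU he' hee' fun g => ?_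
    rw [← mul_sumU_coeff, ← hN, h2, MonoidAlgebra.coeff_zero, Finsupp.zero_apply]
  · left
    have h3 : e * (e' * N) = 0 := by rw [← mul_assoc, hoe, zero_mul]
    rw [h2, mul_smul_comm] at h3
    have h4 : e * Z = 0 := (smul_eq_zero.1 h3).resolve_left hc0
    have h5 : e * N = 0 := by
      rw [← hee, mul_assoc, h1, mul_smul_comm, h4, smul_zero]
    refine eq_zero_of_cosetSums_of_idem (p := p) hU he hee fun g => ?_
    rw [← mul_sumU_coeff, ← hN, h5, MonoidAlgebra.coeff_zero, Finsupp.zero_apply]

end CfsgLib.Block.DefiningChar
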