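import Cfsg.Agent.Lib.Block.DefiningChar.SLTriple

/-!
# Invariance of the triple sum from a root `SL₂`
-/

open Finset MonoidAlgebra

set_option autoImplicit false
set_option linter.unusedSectionVars false

namespace CfsgLib.Block.DefiningChar

open CfsgLib.Block
open CfsgLib.FusionCharP.Linear (el)

variable {k : Type*} [Field k] {G : Type*} [Group G] [Fintype G] [DecidableEq G]
  {F : Type*} [Field F] [Fintype F]

/-- A family normalizing a subgroup commutes with its sum. -/
theorem gs_comm_of_norm {L : Subgroup G} [Fintype L] (a : F → G)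
    (hnorm : ∀ t, ∀ l ∈ L, a t * l * (a t)⁻¹ ∈ L) :
    gs k ((↑) : L → G) * gs k a = gs k a * gs k ((↑) : L → G) := by
  classical
  rw [gs_mul, gs_mul, eq_comm]
  have hbij : Function.Bijective
      (fun x : F × L => ((⟨a x.1 * x.2.1 * (a x.1)⁻¹, hnorm x.1 _ x.2.2⟩, x.1) : L × F)) := by
    rw [Fintype.bijective_iff_injective_and_card]
    refine ⟨fun x y h => ?_, by simp [mul_comm]⟩
    simp only [Prod.mk.injEq, Subtype.mk.injEq] at h
    obtain ⟨h1, h2⟩ := h
    rw [h2, mul_left_inj, mul_right_inj] at h1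
    exact Prod.ext h2 (Subtype.ext h1)
  refine gs_congr (Equiv.ofBijective _ hbij) fun x => ?_
  show a x.1 * x.2.1 * (a x.1)⁻¹ * a x.1 = a x.1 * x.2.1
  rw [inv_mul_cancel_right]

/-- A subgroup generated by a normalized subgroup and an additive family meeting it trivially. -/
theorem gs_split {S L : Subgroup G} [Fintype S] [Fintype L] (a : F → G)
    (hadd : ∀ s t, a (s + t) = a s * a t) (haS : ∀ t, a t ∈ S) (hLS : L ≤ S)
    (hnorm : ∀ t, ∀ l ∈ L, a t * l * (a t)⁻¹ ∈ L)
    (hgen : S ≤ Subgroup.closure (Set.range a ∪ (L : Set G))) (hdisj : ∀ t, a t ∈ L → t = 0) :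
    gs k ((↑) : S → G) = gs k a * gs k ((↑) : L → G) := by
  classical
  have h0 : a 0 = 1 := by
    have := hadd 0 0
    rw [add_zero] at this
    exact left_eq_mul.1 this
  have hneg : ∀ t, (a t)⁻¹ = a (-t) := fun t =>
    inv_eq_of_mul_eq_one_right (by rw [← hadd, add_neg_cancel, h0])
  have hnorm' : ∀ t, ∀ l ∈ L, (a t)⁻¹ * l * a t ∈ L := fun t l hl => by
    have := hnorm (-t) l hl
    rwa [← hneg, inv_inv] at this
  rw [gs_mul, eq_comm]
  have hsurj : ∀ s ∈ S, ∃ t, ∃ l ∈ L, s = a t * l := by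
    intro s hs
    have hsc := hgen hs
    clear hs
    induction hsc using Subgroup.closure_induction with
    | one => exact ⟨0, 1, one_mem _, by rw [h0, one_mul]⟩
    | mul x y _ _ hx hy =>
      obtain ⟨t, l, hl, rfl⟩ := hx
      obtain ⟨t', l', hl', rfl⟩ := hy
      refine ⟨t + t', ((a t')⁻¹ * l * a t') * l', mul_mem (hnorm' t' l hl) hl', ?_⟩
      rw [hadd]; group
    | inv x _ hx =>
      obtain ⟨t, l, hl, rfl⟩ := hx
      refine ⟨-t, a t * l⁻¹ * (a t)⁻¹, hnorm t _ (inv_mem hl), ?_⟩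
      rw [← hneg]; group
    | mem x hx =>
      rcases hx with ⟨t, rfl⟩ | hx
      · exact ⟨t, 1, one_mem _, (mul_one _).symm⟩
      · exact ⟨0, x, hx, by rw [h0, one_mul]⟩
  refine gs_congr (Equiv.ofBijective
    (fun x : F × L => (⟨a x.1 * x.2.1, mul_mem (haS x.1) (hLS x.2.2)⟩ : S)) ⟨fun x y h => ?_, fun s => ?_⟩)
    fun x => rfl
  · have h1 : a x.1 * x.2.1 = a y.1 * y.2.1 := congrArg Subtype.val h
    have h2 : a (-y.1 + x.1) ∈ L := by
      rw [hadd, ← hneg, show (a y.1)⁻¹ * a x.1 = y.2.1 * (x.2.1)⁻¹ by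
        rw [eq_mul_inv_iff_mul_eq, mul_assoc, h1]; group]
      exact mul_mem y.2.2 (inv_mem x.2.2)
    have h3 : x.1 = y.1 := (neg_add_eq_zero.1 (hdisj _ h2)).symm
    rw [h3, mul_right_inj] at h1
    exact Prod.ext h3 (Subtype.ext h1)
  · obtain ⟨t, l, hl, e⟩ := hsurj s s.2
    exact ⟨(t, ⟨l, hl⟩), Subtype.ext e.symm⟩

theorem zero_ne_one_two : (0 : Fin 2) ≠ 1 := by decide

variable (p : ℕ) [Fact p.Prime] [CharP F p] [CharP k p]
include p

/-- The image of the rank one identity. -/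
theorem rankOne_image (φ : Matrix.SpecialLinearGroup (Fin 2) F →* G) {b : F} (hb : b ≠ 0) :
    MonoidAlgebra.single (φ (SL.tor 0 1 zero_ne_one_two b)) (1 : k) *
        (gs k (fun t : F => φ (el 0 1 zero_ne_one_two t)) *
          gs k (fun t : F => φ (el 1 0 zero_ne_one_two.symm t)) *
          gs k (fun t : F => φ (el 0 1 zero_ne_one_two t))) =
      gs k (fun t : F => φ (el 0 1 zero_ne_one_two t)) *
          gs k (fun t : F => φ (el 1 0 zero_ne_one_two.symm t)) *
          gs k (fun t : F => φ (el 0 1 zero_ne_one_two t)) := by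
  classical
  have := Fintype.ofFinite (Matrix.SpecialLinearGroup (Fin 2) F)
  have := Fintype.ofFinite (CfsgLib.AutPSL.unitri (n := 2) (F := F))
  have h := SL.rankOne_invariant (n := 2) (k := k) p zero_ne_one_two hb
  have hgs : ∀ f : F → Matrix.SpecialLinearGroup (Fin 2) F,
      MonoidAlgebra.mapDomainRingHom k φ (gs k f) = gs k (fun t => φ (f t)) := fun f => by
    simp [gs, map_sum, MonoidAlgebra.mapDomainRingHom_apply]
  have h2 := congrArg (MonoidAlgebra.mapDomainRingHom k φ) h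
  simp only [map_mul, hgs] at h2
  rwa [MonoidAlgebra.mapDomainRingHom_apply, MonoidAlgebra.mapDomain_single] at h2

/-- **Invariance of the triple sum under the torus of a root `SL₂`.** -/
theorem triple_invariant_of_root (φ : Matrix.SpecialLinearGroup (Fin 2) F →* G)
    {U P L V : Subgroup G} [Fintype U] [Fintype P] [Fintype L] [Fintype V] {w : G}
    (hVw : ∀ x, x ∈ V ↔ w⁻¹ * x * w ∈ U)
    (haU : ∀ t, φ (el 0 1 zero_ne_one_two t) ∈ U) (hPU : P ≤ U)
    (haP : ∀ t, ∀ x ∈ P, φ (el 0 1 zero_ne_one_two t) * x * (φ (el 0 1 zero_ne_one_two t))⁻¹ ∈ P)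
    (hUgen : U ≤ Subgroup.closure (Set.range (fun t => φ (el 0 1 zero_ne_one_two t)) ∪ (P : Set G)))
    (hUdisj : ∀ t, φ (el 0 1 zero_ne_one_two t) ∈ P → t = 0)
    (hcV : ∀ t, φ (el 1 0 zero_ne_one_two.symm t) ∈ V) (hLV : L ≤ V)
    (hcL : ∀ t, ∀ x ∈ L,
      φ (el 1 0 zero_ne_one_two.symm t) * x * (φ (el 1 0 zero_ne_one_two.symm t))⁻¹ ∈ L)
    (hVgen : V ≤ Subgroup.closure
      (Set.range (fun t => φ (el 1 0 zero_ne_one_two.symm t)) ∪ (L : Set G)))
    (hVdisj : ∀ t, φ (el 1 0 zero_ne_one_two.symm t) ∈ L → t = 0)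
    (haL : ∀ t, ∀ x ∈ L, φ (el 0 1 zero_ne_one_two t) * x * (φ (el 0 1 zero_ne_one_two t))⁻¹ ∈ L)
    {b : F} (hb : b ≠ 0)
    (hhP : ∀ x, x ∈ P ↔ φ (SL.tor 0 1 zero_ne_one_two b) * x *
      (φ (SL.tor 0 1 zero_ne_one_two b))⁻¹ ∈ P) :
    MonoidAlgebra.single (φ (SL.tor 0 1 zero_ne_one_two b)) (1 : k) * triple k U w =
      triple k U w := by
  classical
  have hadd : ∀ {i j : Fin 2} (h : i ≠ j) (s t : F),
      φ (el i j h (s + t)) = φ (el i j h s) * φ (el i j h t) :=
    fun h s t => by rw [← map_mul, SL.el_mul_el]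
  set a := fun t : F => φ (el 0 1 zero_ne_one_two t) with ha
  set c := fun t : F => φ (el 1 0 zero_ne_one_two.symm t) with hc
  have hV : gs k (fun u : U => w * (u : G) * w⁻¹) = gs k ((↑) : V → G) :=
    gs_congr
      { toFun := fun u : U => (⟨w * (u : G) * w⁻¹, (hVw _).2 (by simp [mul_assoc])⟩ : V)
        invFun := fun v => ⟨w⁻¹ * (v : G) * w, (hVw _).1 v.2⟩
        left_inv := fun u => Subtype.ext (by simp [mul_assoc])
        right_inv := fun v => Subtype.ext (by simp [mul_assoc]) } fun u => rfl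
  have e1 : gs k ((↑) : U → G) = gs k a * gs k ((↑) : P → G) :=
    gs_split a (hadd zero_ne_one_two) haU hPU haP hUgen hUdisj
  have e2 : gs k ((↑) : P → G) * gs k a = gs k a * gs k ((↑) : P → G) := gs_comm_of_norm a haP
  have e3 : gs k ((↑) : V → G) = gs k c * gs k ((↑) : L → G) :=
    gs_split c (hadd zero_ne_one_two.symm) hcV hLV hcL hVgen hVdisj
  have e4 : gs k ((↑) : L → G) * gs k a = gs k a * gs k ((↑) : L → G) := gs_comm_of_norm a haL
  set t₀ := φ (SL.tor 0 1 zero_ne_one_two b) with ht₀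
  have e5 : MonoidAlgebra.single t₀ (1 : k) * gs k ((↑) : P → G) =
      gs k ((↑) : P → G) * MonoidAlgebra.single t₀ 1 := by
    rw [single_mul_gs, gs_mul_single]
    refine gs_congr
      { toFun := fun u : P => (⟨t₀ * (u : G) * t₀⁻¹, (hhP _).1 u.2⟩ : P)
        invFun := fun v => ⟨t₀⁻¹ * (v : G) * t₀, (hhP _).2 (by simp [mul_assoc])⟩
        left_inv := fun u => Subtype.ext (by simp [mul_assoc])
        right_inv := fun v => Subtype.ext (by simp [mul_assoc]) } fun u => ?_
    show t₀ * (u : G) * t₀⁻¹ * t₀ = t₀ * u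
    rw [inv_mul_cancel_right]
  have e6 : MonoidAlgebra.single t₀ (1 : k) * (gs k a * gs k c * gs k a) = gs k a * gs k c * gs k a :=
    rankOne_image p φ hb
  rw [triple, hV, e1, e3]
  set A := gs k a
  set P' := gs k ((↑) : P → G)
  set C' := gs k c
  set L' := gs k ((↑) : L → G)
  have e : A * P' * (C' * L') * (A * P') = P' * (A * C' * A) * (L' * P') := by
    calc A * P' * (C' * L') * (A * P') = P' * A * C' * (L' * A) * P' := by
          rw [e2]; simp only [mul_assoc]
      _ = P' * A * C' * (A * L') * P' := by rw [e4]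
      _ = _ := by simp only [mul_assoc]
  rw [e]
  calc MonoidAlgebra.single t₀ (1 : k) * (P' * (A * C' * A) * (L' * P'))
      = MonoidAlgebra.single t₀ (1 : k) * P' * (A * C' * A) * (L' * P') := by simp only [mul_assoc]
    _ = P' * MonoidAlgebra.single t₀ (1 : k) * (A * C' * A) * (L' * P') := by rw [e5]
    _ = P' * (MonoidAlgebra.single t₀ (1 : k) * (A * C' * A)) * (L' * P') := by
        simp only [mul_assoc]
    _ = _ := by rw [e6]

end CfsgLib.Block.DefiningChar
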