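import Cfsg.Agent.Lib.Block.DefiningChar.SLTriple
import Cfsg.Agent.Lib.Char.SteinbergPSL
import Cfsg.Agent.S0914

/-!
# The blocks of `SL_n` in defining characteristic
-/

set_option autoImplicit false
set_option linter.unusedSectionVars false

namespace CfsgLib.Block.DefiningChar.SL

open Cfsg CfsgLib.Block CfsgLib.Block.DefiningChar

variable {F : Type*} [Field F] [Fintype F] {n : ℕ} {p : ℕ} [Fact p.Prime] [CharP F p]

theorem not_dvd_card_center (hn : 1 ≤ n) :
    ¬ p ∣ Nat.card (Subgroup.center (Matrix.SpecialLinearGroup (Fin n) F)) := by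
  rw [CfsgLib.Classical.card_center_sl hn]
  intro h
  have hp : p.Prime := Fact.out
  obtain ⟨f, -, hf⟩ := FiniteField.card F p
  have h1 : p ∣ Fintype.card F := hf ▸ dvd_pow_self p f.pos.ne'
  have h2 := Nat.dvd_sub h1 (h.trans (Nat.gcd_dvd_right _ _))
  rw [show Fintype.card F - (Fintype.card F - 1) = 1 by have := Fintype.card_pos (α := F); omega,
    Nat.dvd_one] at h2
  exact hp.ne_one h2

theorem dvd_card (hn : 2 ≤ n) : p ∣ Nat.card (Matrix.SpecialLinearGroup (Fin n) F) := by
  haveI : NeZero n := ⟨by omega⟩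
  have hlt : (⟨0, by omega⟩ : Fin n) < ⟨1, by omega⟩ := Fin.lt_def.2 Nat.zero_lt_one
  have hp : (CfsgLib.FusionCharP.Linear.el _ _ hlt.ne (1 : F)) ^ p = 1 := by
    have h : ∀ m : ℕ, (CfsgLib.FusionCharP.Linear.el _ _ hlt.ne (1 : F)) ^ m =
        CfsgLib.FusionCharP.Linear.el _ _ hlt.ne (m : F) := by
      intro m
      induction m with
      | zero => rw [pow_zero, Nat.cast_zero, el_zero]
      | succ m ih => rw [pow_succ, ih, el_mul_el, Nat.cast_succ]
    rw [h, CharP.cast_eq_zero, el_zero]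
  rw [← orderOf_eq_prime hp fun h1 => ?_]
  · exact orderOf_dvd_natCard _
  · have := congrArg (fun g : Matrix.SpecialLinearGroup (Fin n) F => g.1 ⟨0, by omega⟩ ⟨1, by omega⟩) h1
    simp [CfsgLib.FusionCharP.Linear.el_val] at this

theorem card_defect_zero (hn : 2 ≤ n) {M : Ideal AlgInt} (hM : IsPModular p M) :
    Nat.card {B : Set (IrrCharacter (Matrix.SpecialLinearGroup (Fin n) F)) //
      IsPBlock M B ∧ blockDefect p B = 0} = 1 := by
  classical
  have := hM.2.1
  have : NeZero n := ⟨by omega⟩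
  have hp : p.Prime := Fact.out
  rw [Nat.card_eq_one_iff_unique]
  refine ⟨⟨fun B B' => Subtype.ext (eq_of_defect_zero hM bigCell isPGroup_unitri
    (by haveI := charP_resField hM; exact diag_le_closure_invariant (k := ResField M) p) B.2.1 B'.2.1 B.2.2 B'.2.2)⟩, ?_⟩
  obtain ⟨ψ, hψ, hval⟩ := CfsgLib.Char.SteinbergPSL.exists_steinberg (F := F) p hn
  let q := QuotientGroup.mk' (Subgroup.center (Matrix.SpecialLinearGroup (Fin n) F))
  let χ : IrrCharacter (Matrix.SpecialLinearGroup (Fin n) F) :=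
    ⟨fun g => ψ (q g), CfsgLib.Char.isIrrCharacter_comp_surjective hψ q (QuotientGroup.mk'_surjective _)⟩
  obtain ⟨P⟩ : Nonempty (Sylow p (Matrix.ProjectiveSpecialLinearGroup (Fin n) F)) := inferInstance
  have hfac : (Nat.card (Matrix.SpecialLinearGroup (Fin n) F)).factorization p =
      (Nat.card (Matrix.ProjectiveSpecialLinearGroup (Fin n) F)).factorization p := by
    rw [Subgroup.card_eq_card_quotient_mul_card_subgroup
      (Subgroup.center (Matrix.SpecialLinearGroup (Fin n) F)),
      Nat.factorization_mul Nat.card_pos.ne' Nat.card_pos.ne', Finsupp.add_apply,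
      Nat.factorization_eq_zero_of_not_dvd (not_dvd_card_center (n := n) (F := F) (p := p) (by omega)),
      add_zero]
  have hdeg : charDegree (χ : Matrix.SpecialLinearGroup (Fin n) F → ℂ) =
      p ^ (Nat.card (Matrix.SpecialLinearGroup (Fin n) F)).factorization p := by
    rw [hfac, ← P.card_eq_multiplicity]
    have h1 : (χ : Matrix.SpecialLinearGroup (Fin n) F → ℂ) 1 =
        ((Nat.card (P : Subgroup (Matrix.ProjectiveSpecialLinearGroup (Fin n) F)) : ℕ) : ℂ) := by
      show ψ (q 1) = _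
      rw [map_one]; exact (hval P).1
    simp [charDegree, h1]
  refine ⟨⟨blockOf M (χ : _ → ℂ), ?_⟩⟩
  refine exists_defect_zero_of_degree (χ := χ) hM rfl ?_ (by
    rw [hdeg, hp.factorization_pow, Finsupp.single_eq_same])
  refine (Cfsg.Agent.S0914.result p M hM χ).1 fun h => ?_
  rw [hdeg] at h
  have hdvd : p ^ (Nat.card (Matrix.SpecialLinearGroup (Fin n) F)).factorization p ∣
      Nat.card (Matrix.SpecialLinearGroup (Fin n) F) := Nat.ordProj_dvd _ _
  exact Nat.not_dvd_ordCompl hp Nat.card_pos.ne' h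

end CfsgLib.Block.DefiningChar.SL
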