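import Cfsg.Agent.Lib.Block.DefiningChar.SL

/-!
# Torus invariance of the triple sum of `SL_n`
-/

open Finset MonoidAlgebra Matrix

set_option autoImplicit false
set_option linter.unusedSectionVars false

namespace CfsgLib.Block.DefiningChar.SL

open CfsgLib.Block CfsgLib.Block.DefiningChar
open CfsgLib.AutPSL (unitri mem_unitri)
open CfsgLib.FusionCharP.Linear (el el_val)

variable {n : ℕ} {F : Type*} [Field F]

local notation "SLn" => Matrix.SpecialLinearGroup (Fin n) F
local notation "Mn" => Matrix (Fin n) (Fin n) F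

/-- A matrix acting on two coordinates. -/
def blk (i j : Fin n) (a b c d : F) : Mn :=
  1 + Matrix.single i i (a - 1) + Matrix.single i j b + Matrix.single j i c +
    Matrix.single j j (d - 1)

theorem blk_mul {i j : Fin n} (h : i ≠ j) (a b c d a' b' c' d' : F) :
    blk i j a b c d * blk i j a' b' c' d' =
      blk i j (a * a' + b * c') (a * b' + b * d') (c * a' + d * c') (c * b' + d * d') := by
  simp only [blk, mul_add, add_mul, one_mul, mul_one, Matrix.single_mul_single_same,
    ne_eq, h, h.symm, not_false_eq_true, Matrix.single_mul_single_of_ne, add_zero, zero_add]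
  ext x y
  simp only [Matrix.add_apply, Matrix.single_apply, Matrix.zero_apply, Matrix.one_apply]
  split_ifs <;> first | ring1 | (exfalso; simp_all)

theorem el_eq_blk {i j : Fin n} (h : i ≠ j) (s : F) : (el i j h s).1 = blk i j 1 s 0 1 := by
  rw [el_val]; simp [blk]

theorem el_swap_eq_blk {i j : Fin n} (h : j ≠ i) (s : F) : (el j i h s).1 = blk i j 1 0 s 1 := by
  rw [el_val]; simp [blk]

theorem el_mul_el {i j : Fin n} (h : i ≠ j) (s t : F) : el i j h s * el i j h t = el i j h (s + t) :=
  Subtype.ext (by
    rw [Matrix.SpecialLinearGroup.coe_mul, el_eq_blk, el_eq_blk, el_eq_blk, blk_mul h]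
    congr 1 <;> ring)

theorem el_zero {i j : Fin n} (h : i ≠ j) : el i j h (0 : F) = 1 := Subtype.ext (by
  rw [el_val]; simp)

theorem el_inv {i j : Fin n} (h : i ≠ j) (s : F) : (el i j h s)⁻¹ = el i j h (-s) := by
  refine inv_eq_of_mul_eq_one_right ?_
  rw [el_mul_el, add_neg_cancel, el_zero]

theorem el_mul_apply {i j : Fin n} (h : i ≠ j) (s : F) (A : SLn) (a b : Fin n) :
    (el i j h s * A).1 a b = A.1 a b + (if a = i then s * A.1 j b else 0) := by
  rw [Matrix.SpecialLinearGroup.coe_mul, el_val, Matrix.add_mul, Matrix.one_mul, Matrix.add_apply]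
  congr 1
  split_ifs with ha
  · subst ha; rw [Matrix.single_mul_apply_same]
  · rw [Matrix.single_mul_apply_of_ne _ _ _ _ _ ha]

theorem mul_el_apply {i j : Fin n} (h : i ≠ j) (s : F) (A : SLn) (a b : Fin n) :
    (A * el i j h s).1 a b = A.1 a b + (if b = j then A.1 a i * s else 0) := by
  rw [Matrix.SpecialLinearGroup.coe_mul, el_val, Matrix.mul_add, Matrix.mul_one, Matrix.add_apply]
  congr 1
  split_ifs with hb
  · subst hb; rw [Matrix.mul_single_apply_same]
  · rw [Matrix.mul_single_apply_of_ne _ _ _ _ _ hb]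

/-- The monomial element of the pair `(i, j)`. -/
def mon (i j : Fin n) (h : i ≠ j) (c : F) : SLn :=
  el i j h (-c⁻¹) * el j i h.symm c * el i j h (-c⁻¹)

theorem mon_val {i j : Fin n} (h : i ≠ j) {c : F} (hc : c ≠ 0) :
    (mon i j h c).1 = blk i j 0 (-c⁻¹) c 0 := by
  rw [mon, Matrix.SpecialLinearGroup.coe_mul, Matrix.SpecialLinearGroup.coe_mul, el_eq_blk,
    el_swap_eq_blk, blk_mul h, blk_mul h]
  congr 1 <;> field_simp <;> ring

theorem el_swap_eq {i j : Fin n} (h : i ≠ j) (c : F) :
    el j i h.symm c = el i j h c⁻¹ * mon i j h c * el i j h c⁻¹ := by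
  rw [mon, show el i j h c⁻¹ * (el i j h (-c⁻¹) * el j i h.symm c * el i j h (-c⁻¹)) * el i j h c⁻¹ =
    el i j h c⁻¹ * el i j h (-c⁻¹) * el j i h.symm c * (el i j h (-c⁻¹) * el i j h c⁻¹) by
      simp only [mul_assoc], el_mul_el, el_mul_el, add_neg_cancel, neg_add_cancel, el_zero,
    one_mul, mul_one]

/-- The coroot element of the pair `(i, j)`. -/
def tor (i j : Fin n) (h : i ≠ j) (b : F) : SLn := mon i j h b⁻¹ * mon i j h (-1)

theorem tor_val {i j : Fin n} (h : i ≠ j) {b : F} (hb : b ≠ 0) :
    (tor i j h b).1 = blk i j b 0 0 b⁻¹ := by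
  rw [tor, Matrix.SpecialLinearGroup.coe_mul, mon_val h (inv_ne_zero hb), mon_val h (by simp),
    blk_mul h]
  congr 1 <;> field_simp <;> ring

theorem tor_mul_mon {i j : Fin n} (h : i ≠ j) {b c : F} (hb : b ≠ 0) (hc : c ≠ 0) :
    tor i j h b * mon i j h c = mon i j h (c * b⁻¹) := Subtype.ext (by
  rw [Matrix.SpecialLinearGroup.coe_mul, tor_val h hb, mon_val h hc,
    mon_val h (mul_ne_zero hc (inv_ne_zero hb)), blk_mul h]
  congr 1 <;> field_simp <;> ring)

theorem tor_mul_el {i j : Fin n} (h : i ≠ j) {b : F} (hb : b ≠ 0) (s : F) :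
    tor i j h b * el i j h s = el i j h (b * b * s) * tor i j h b := Subtype.ext (by
  rw [Matrix.SpecialLinearGroup.coe_mul, Matrix.SpecialLinearGroup.coe_mul, tor_val h hb,
    el_eq_blk, el_eq_blk, blk_mul h, blk_mul h]
  congr 1 <;> field_simp <;> ring)

theorem tor_mem_diag {i j : Fin n} (h : i ≠ j) {b : F} (hb : b ≠ 0) : tor i j h b ∈ diag (F := F) := by
  intro x y hxy
  rw [tor_val h hb, blk]
  simp [Matrix.single_apply, Matrix.one_apply, hxy, h, h.symm]
  rw [if_neg fun e => hxy (e.1.symm.trans e.2), if_neg fun e => hxy (e.1.symm.trans e.2), add_zero]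

variable [Fintype F]

/-- `t` lies in the subgroup generated by the coroot elements of adjacent pairs. -/
theorem diag_le_closure :
    diag (n := n) (F := F) ≤ Subgroup.closure
      {g | ∃ (i j : Fin n) (h : i ≠ j) (b : F), j.val = i.val + 1 ∧ b ≠ 0 ∧ g = tor i j h b} := by
  intro t ht
  suffices key : ∀ k : ℕ, ∀ t ∈ diag (n := n) (F := F), (∀ a : Fin n, a.val + k < n → t.1 a a = 1) →
      t ∈ Subgroup.closure
        {g | ∃ (i j : Fin n) (h : i ≠ j) (b : F), j.val = i.val + 1 ∧ b ≠ 0 ∧ g = tor i j h b} from
    key n t ht fun a ha => absurd ha (by omega)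
  intro k
  induction k with
  | zero =>
    intro t ht h1
    rw [show t = 1 from Subtype.ext (Matrix.ext fun a b => by
      by_cases hab : a = b
      · subst hab; rw [h1 a (by omega)]; simp
      · rw [ht a b hab]; simp [hab])]
    exact one_mem _
  | succ k ih =>
    intro t ht h1
    by_cases hk : k + 1 ≤ n
    swap
    · exact ih t ht fun a ha => absurd ha (by omega)
    set i : Fin n := ⟨n - (k + 1), by omega⟩ with hi
    by_cases hlast : k = 0
    · subst hlast
      refine ih t ht fun a ha => ?_
      by_cases h : a = i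
      · subst h
        have hd : t.1.det = 1 := t.2
        rw [← (Matrix.isDiag_iff_diagonal_diag t.1).1 ht, Matrix.det_diagonal,
          Finset.prod_eq_single i] at hd
        · exact hd
        · intro b _ hb
          refine h1 b ?_
          have : b.val ≠ n - 1 := fun e => hb (Fin.ext (by simp [hi, e]))
          have := b.isLt
          omega
        · simp
      · refine h1 a ?_
        have : a.val ≠ n - 1 := fun e => h (Fin.ext (by simp [hi, e]))
        omega
    · set j : Fin n := ⟨n - k, by omega⟩ with hj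
      have hij : i ≠ j := fun e => by
        have := congrArg Fin.val e; simp [hi, hj] at this; omega
      have hb := diag_apply_ne_zero ht i
      have hg : tor i j hij (t.1 i i) ∈ Subgroup.closure
          {g | ∃ (i j : Fin n) (h : i ≠ j) (b : F), j.val = i.val + 1 ∧ b ≠ 0 ∧ g = tor i j h b} :=
        Subgroup.subset_closure ⟨i, j, hij, t.1 i i, by simp [hi, hj]; omega, hb, rfl⟩
      rw [show t = tor i j hij (t.1 i i) * ((tor i j hij (t.1 i i))⁻¹ * t) by
        rw [mul_inv_cancel_left]]
      refine mul_mem hg (ih _ (mul_mem (inv_mem (tor_mem_diag hij hb)) ht) fun a ha => ?_)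
      set g := tor i j hij (t.1 i i) with hgdef
      have hgd : g ∈ diag (n := n) (F := F) := tor_mem_diag hij hb
      have e : (g * (g⁻¹ * t)).1 a a = t.1 a a := by rw [mul_inv_cancel_left]
      rw [diag_mul_apply hgd] at e
      have haj : a ≠ j := fun e' => by subst e'; simp [hj] at ha; omega
      have hga : g.1 a a = if a = i then t.1 i i else 1 := by
        rw [hgdef, tor_val hij hb, blk]
        by_cases hai : a = i
        · subst hai; simp [Matrix.single_apply, hij, hij.symm]
        · simp [Matrix.single_apply, Ne.symm hai, Ne.symm haj, hai]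
      by_cases hai : a = i
      · rw [hga, if_pos hai, hai] at e
        exact hai ▸ mul_left_cancel₀ hb (e.trans (mul_one _).symm)
      · rw [hga, if_neg hai, one_mul] at e
        rw [e]
        refine h1 a ?_
        have : a.val ≠ n - (k + 1) := fun e' => hai (Fin.ext (by simp [hi, e']))
        omega

/-- Upper unitriangular elements with a given entry zero. -/
abbrev UpZero (i j : Fin n) : Type _ := {u : SLn // u ∈ unitri ∧ u.1 i j = 0}

/-- Lower unitriangular elements with a given entry zero. -/
abbrev LowZero (i j : Fin n) : Type _ := {u : SLn // IsLowerUni u ∧ u.1 j i = 0}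

theorem el_mem_unitri {i j : Fin n} (h : i ≠ j) (hlt : i < j) (s : F) : el i j h s ∈ unitri :=
  CfsgLib.AutPSL.tv_mem_unitri hlt s

theorem el_isLowerUni {i j : Fin n} (h : j ≠ i) (hlt : i < j) (s : F) : IsLowerUni (el j i h s) := by
  refine ⟨fun a b hab => ?_, fun a => ?_⟩
  · rw [el_val, Matrix.add_apply, Matrix.one_apply_ne hab.ne, zero_add, Matrix.single_apply,
      if_neg]
    rintro ⟨rfl, rfl⟩
    exact lt_asymm hab hlt
  · rw [el_val, Matrix.add_apply, Matrix.one_apply_eq, Matrix.single_apply, if_neg, add_zero]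
    rintro ⟨e1, e2⟩
    exact h (e1.trans e2.symm)

theorem IsLowerUni.mul {A B : SLn} (hA : IsLowerUni A) (hB : IsLowerUni B) : IsLowerUni (A * B) := by
  refine ⟨fun a b hab => ?_, fun a => ?_⟩
  · rw [Matrix.SpecialLinearGroup.coe_mul, Matrix.mul_apply]
    refine Finset.sum_eq_zero fun c _ => ?_
    rcases lt_or_ge a c with h | h
    · rw [hA.1 a c h, zero_mul]
    · rw [hB.1 c b (lt_of_le_of_lt h hab), mul_zero]
  · rw [Matrix.SpecialLinearGroup.coe_mul, Matrix.mul_apply, Finset.sum_eq_single a, hA.2, hB.2,
      one_mul]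
    · intro c _ hc
      rcases lt_or_gt_of_ne hc with h | h
      · rw [hB.1 c a h, mul_zero]
      · rw [hA.1 a c h, zero_mul]
    · simp

section Triple

variable {k : Type*} [Field k]
  [NeZero n] [Fintype (Matrix.SpecialLinearGroup (Fin n) F)]
  [DecidableEq (Matrix.SpecialLinearGroup (Fin n) F)] [Fintype (unitri (n := n) (F := F))]

/-- Subtypes of the finite group are finite. -/
noncomputable local instance (P : Matrix.SpecialLinearGroup (Fin n) F → Prop) :
    Fintype {x : Matrix.SpecialLinearGroup (Fin n) F // P x} := Fintype.ofFinite _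

theorem gs_lower : gs k (fun u : (unitri (n := n) (F := F)) => revElt n F * (u : SLn) * (revElt n F)⁻¹) =
    gs k (fun u : {u : SLn // IsLowerUni u} => u.1) :=
  gs_congr
    { toFun := fun u : (unitri (n := n) (F := F)) =>
        (⟨revElt n F * (u : SLn) * (revElt n F)⁻¹,
          isLowerUni_of_conj (inv_mul_cancel_right _ _) u.2⟩ : {u : SLn // IsLowerUni u})
      invFun := fun l => ⟨(revElt n F)⁻¹ * l.1 * revElt n F,
        mem_unitri_of_conj (A := l.1) (by group) l.2⟩
      left_inv := fun u => Subtype.ext (by simp [mul_assoc])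
      right_inv := fun l => Subtype.ext (by simp [mul_assoc]) } fun u => rfl

variable {i j : Fin n}

theorem unitri_split_right (h : i ≠ j) (hlt : i < j) :
    gs k ((↑) : unitri (n := n) (F := F) → SLn) =
      gs k (fun u : UpZero (F := F) i j => u.1) * gs k (fun a : F => el i j h a) := by
  rw [gs_mul, eq_comm]
  refine gs_congr
    { toFun := fun x : UpZero (F := F) i j × F =>
        (⟨x.1.1 * el i j h x.2, mul_mem x.1.2.1 (el_mem_unitri h hlt _)⟩ : unitri (n := n) (F := F))
      invFun := fun v => (⟨(v : SLn) * el i j h (-(v : SLn).1 i j),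
        mul_mem v.2 (el_mem_unitri h hlt _), by
          rw [mul_el_apply, if_pos rfl, v.2.2 i]; ring⟩, (v : SLn).1 i j)
      left_inv := fun x => by
        have e : (x.1.1 * el i j h x.2).1 i j = x.2 := by
          rw [mul_el_apply, if_pos rfl, x.1.2.2, x.1.2.1.2 i, zero_add, one_mul]
        refine Prod.ext (Subtype.ext ?_) e
        show x.1.1 * el i j h x.2 * el i j h _ = x.1.1
        rw [e, mul_assoc, el_mul_el, add_neg_cancel, el_zero, mul_one]
      right_inv := fun v => Subtype.ext (by
        show (v : SLn) * el i j h (-(v : SLn).1 i j) * el i j h ((v : SLn).1 i j) = v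
        rw [mul_assoc, el_mul_el, neg_add_cancel, el_zero, mul_one]) } fun x => rfl

theorem unitri_split_left (h : i ≠ j) (hlt : i < j) :
    gs k ((↑) : unitri (n := n) (F := F) → SLn) =
      gs k (fun a : F => el i j h a) * gs k (fun u : UpZero (F := F) i j => u.1) := by
  rw [gs_mul, eq_comm]
  refine gs_congr
    { toFun := fun x : F × UpZero (F := F) i j =>
        (⟨el i j h x.1 * x.2.1, mul_mem (el_mem_unitri h hlt _) x.2.2.1⟩ : unitri (n := n) (F := F))
      invFun := fun v => ((v : SLn).1 i j, ⟨el i j h (-(v : SLn).1 i j) * (v : SLn),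
        mul_mem (el_mem_unitri h hlt _) v.2, by
          rw [el_mul_apply, if_pos rfl, v.2.2 j]; ring⟩)
      left_inv := fun x => by
        have e : (el i j h x.1 * x.2.1).1 i j = x.1 := by
          rw [el_mul_apply, if_pos rfl, x.2.2.2, x.2.2.1.2 j, zero_add, mul_one]
        refine Prod.ext e (Subtype.ext ?_)
        show el i j h _ * (el i j h x.1 * x.2.1) = x.2.1
        rw [e, ← mul_assoc, el_mul_el, neg_add_cancel, el_zero, one_mul]
      right_inv := fun v => Subtype.ext (by
        show el i j h ((v : SLn).1 i j) * (el i j h (-(v : SLn).1 i j) * (v : SLn)) = v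
        rw [← mul_assoc, el_mul_el, add_neg_cancel, el_zero, one_mul]) } fun x => rfl

theorem lower_split (h : i ≠ j) (hlt : i < j) :
    gs k (fun u : {u : SLn // IsLowerUni u} => u.1) =
      gs k (fun c : F => el j i h.symm c) * gs k (fun u : LowZero (F := F) i j => u.1) := by
  rw [gs_mul, eq_comm]
  refine gs_congr
    { toFun := fun x : F × LowZero (F := F) i j =>
        (⟨el j i h.symm x.1 * x.2.1, (el_isLowerUni h.symm hlt _).mul x.2.2.1⟩ :
          {u : SLn // IsLowerUni u})
      invFun := fun v => (v.1.1 j i, ⟨el j i h.symm (-v.1.1 j i) * v.1,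
        (el_isLowerUni h.symm hlt _).mul v.2, by
          rw [el_mul_apply, if_pos rfl, v.2.2 i]; ring⟩)
      left_inv := fun x => by
        have e : (el j i h.symm x.1 * x.2.1).1 j i = x.1 := by
          rw [el_mul_apply, if_pos rfl, x.2.2.2, x.2.2.1.2 i, zero_add, mul_one]
        refine Prod.ext e (Subtype.ext ?_)
        show el j i h.symm _ * (el j i h.symm x.1 * x.2.1) = x.2.1
        rw [e, ← mul_assoc, el_mul_el, neg_add_cancel, el_zero, one_mul]
      right_inv := fun v => Subtype.ext (by
        show el j i h.symm _ * (el j i h.symm _ * v.1) = v.1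
        rw [← mul_assoc, el_mul_el, add_neg_cancel, el_zero, one_mul]) } fun x => rfl

theorem conj_el_lowZero (h : i ≠ j) (hj : j.val = i.val + 1) (s : F) {l : SLn}
    (hl : IsLowerUni l ∧ l.1 j i = 0) :
    IsLowerUni (el i j h s * l * el i j h (-s)) ∧ (el i j h s * l * el i j h (-s)).1 j i = 0 := by
  obtain ⟨⟨h1, h2⟩, h0⟩ := hl
  have hlt : i < j := Fin.lt_def.2 (by omega)
  have key : ∀ a b, (el i j h s * l * el i j h (-s)).1 a b =
      (l.1 a b + if a = i then s * l.1 j b else 0) +
        if b = j then (l.1 a i + if a = i then s * l.1 j i else 0) * -s else 0 := fun a b => by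
    rw [mul_el_apply, el_mul_apply, el_mul_apply]
  refine ⟨⟨fun a b hab => ?_, fun a => ?_⟩, ?_⟩
  · rw [key, h1 a b hab]
    by_cases ha : a = i
    · subst ha
      by_cases hb : b = j
      · subst hb; simp [h2, h0]
      · have : j < b := Fin.lt_def.2 (by
          have := Fin.val_ne_of_ne hb; have := Fin.lt_def.1 hab; omega)
        simp [h1 j b this, hb]
    · by_cases hb : b = j
      · subst hb
        have : a < i := Fin.lt_def.2 (by
          have := Fin.val_ne_of_ne ha; have := Fin.lt_def.1 hab; omega)
        simp [h1 a i this, ha]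
      · simp [ha, hb]
  · rw [key, h2]
    by_cases ha : a = i
    · subst ha; simp [h0, h]
    · by_cases hb : a = j
      · subst hb; simp [h0, ha]
      · simp [ha, hb]
  · rw [key, h0]
    simp [h, h.symm]

theorem el_comm_lowZero (h : i ≠ j) (hj : j.val = i.val + 1) :
    gs k (fun u : LowZero (F := F) i j => u.1) * gs k (fun a : F => el i j h a) =
      gs k (fun a : F => el i j h a) * gs k (fun u : LowZero (F := F) i j => u.1) := by
  rw [gs_mul, gs_mul]
  refine gs_congr
    { toFun := fun x : LowZero (F := F) i j × F =>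
        (x.2, (⟨el i j h (-x.2) * x.1.1 * el i j h x.2, by
          simpa using conj_el_lowZero h hj (-x.2) x.1.2⟩ : LowZero (F := F) i j))
      invFun := fun x : F × LowZero (F := F) i j =>
        (⟨el i j h x.1 * x.2.1 * el i j h (-x.1), conj_el_lowZero h hj x.1 x.2.2⟩, x.1)
      left_inv := fun x => Prod.ext (Subtype.ext (by
        show el i j h x.2 * (el i j h (-x.2) * x.1.1 * el i j h x.2) * el i j h (-x.2) = x.1.1
        rw [← el_inv]; group)) rfl
      right_inv := fun x => Prod.ext rfl (Subtype.ext (by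
        show el i j h (-x.1) * (el i j h x.1 * x.2.1 * el i j h (-x.1)) * el i j h x.1 = x.2.1
        rw [← el_inv]; group)) } fun x => ?_
  show el i j h x.2 * (el i j h (-x.2) * x.1.1 * el i j h x.2) = x.1.1 * el i j h x.2
  rw [← el_inv]; group

theorem tor_comm_upZero (h : i ≠ j) {b : F} (hb : b ≠ 0) :
    MonoidAlgebra.single (tor i j h b) (1 : k) * gs k (fun u : UpZero (F := F) i j => u.1) =
      gs k (fun u : UpZero (F := F) i j => u.1) * MonoidAlgebra.single (tor i j h b) 1 := by
  rw [single_mul_gs, gs_mul_single]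
  have hd := tor_mem_diag h hb
  generalize tor i j h b = t at hd ⊢
  have hz : ∀ t : SLn, t ∈ diag → ∀ u : UpZero (F := F) i j,
      t * u.1 * t⁻¹ ∈ unitri ∧ (t * u.1 * t⁻¹).1 i j = 0 := fun t ht u =>
    ⟨conj_mem_unitri ht u.2.1, by rw [conj_diag_apply ht, u.2.2, mul_zero, zero_mul]⟩
  let e : UpZero (F := F) i j ≃ UpZero (F := F) i j :=
    { toFun := fun u => Subtype.mk (t * u.1 * t⁻¹) (hz t hd u)
      invFun := fun u => Subtype.mk (t⁻¹ * u.1 * t⁻¹⁻¹) (hz t⁻¹ (inv_mem hd) u)
      left_inv := fun u => Subtype.ext (by simp [mul_assoc])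
      right_inv := fun u => Subtype.ext (by simp [mul_assoc]) }
  refine gs_congr e fun u => ?_
  show (e u).1 * t = _
  simp [e, mul_assoc]

theorem el_absorb (h : i ≠ j) (s : F) :
    gs k (fun a : F => el i j h a) * MonoidAlgebra.single (el i j h s) (1 : k) = gs k (fun a : F => el i j h a) ∧
      MonoidAlgebra.single (el i j h s) (1 : k) * gs k (fun a : F => el i j h a) = gs k (fun a : F => el i j h a) := by
  refine ⟨?_, ?_⟩
  · rw [gs_mul_single]
    exact gs_congr (Equiv.addRight s) fun a => (el_mul_el h a s).symm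
  · rw [single_mul_gs]
    exact gs_congr (Equiv.addLeft s) fun a => (el_mul_el h s a).symm

theorem el_sum_sq (p : ℕ) [Fact p.Prime] [CharP F p] [CharP k p] (h : i ≠ j) :
    gs k (fun a : F => el i j h a) * gs k (fun a : F => el i j h a) = 0 := by
  rw [show gs k (fun a : F => el i j h a) * gs k (fun a : F => el i j h a) =
    ∑ s : F, gs k (fun a : F => el i j h a) * MonoidAlgebra.single (el i j h s) (1 : k) from Finset.mul_sum ..,
    Finset.sum_congr rfl fun s _ => (el_absorb h s).1, Finset.sum_const, ← Nat.cast_smul_eq_nsmul k]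
  obtain ⟨f, -, hf⟩ := FiniteField.card F p
  rw [Finset.card_univ, hf, Nat.cast_pow, CharP.cast_eq_zero, zero_pow f.pos.ne', zero_smul]

theorem rankOne_invariant (p : ℕ) [Fact p.Prime] [CharP F p] [CharP k p] (h : i ≠ j) {b : F} (hb : b ≠ 0) :
    MonoidAlgebra.single (tor i j h b) (1 : k) *
        (gs k (fun a : F => el i j h a) * gs k (fun c : F => el j i h.symm c) *
          gs k (fun a : F => el i j h a)) =
      gs k (fun a : F => el i j h a) * gs k (fun c : F => el j i h.symm c) *
        gs k (fun a : F => el i j h a) := by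
  classical
  set A := gs k (fun a : F => el i j h a) with hA
  have hY : A * gs k (fun c : F => el j i h.symm c) * A =
      ∑ c : F, if c = 0 then 0 else A * MonoidAlgebra.single (mon i j h c) 1 * A := by
    rw [show gs k (fun c : F => el j i h.symm c) = ∑ c : F, MonoidAlgebra.single (el j i h.symm c) (1 : k) from rfl,
      Finset.mul_sum, Finset.sum_mul]
    refine Finset.sum_congr rfl fun c _ => ?_
    split_ifs with hc
    · subst hc
      rw [el_zero, show MonoidAlgebra.single (1 : SLn) (1 : k) = 1 from rfl, mul_one, el_sum_sq p h]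
    · have e1 : A * MonoidAlgebra.single (el i j h c⁻¹) (1 : k) = A := (el_absorb h c⁻¹).1
      have e2 : MonoidAlgebra.single (el i j h c⁻¹) (1 : k) * A = A := (el_absorb h c⁻¹).2
      calc A * MonoidAlgebra.single (el j i h.symm c) (1 : k) * A
          = A * MonoidAlgebra.single (el i j h c⁻¹) (1 : k) * MonoidAlgebra.single (mon i j h c) 1 *
              (MonoidAlgebra.single (el i j h c⁻¹) (1 : k) * A) := by
            rw [el_swap_eq h c]
            simp only [mul_assoc, ← MonoidAlgebra.single_mul_single, mul_one]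
            simp only [← mul_assoc, MonoidAlgebra.single_mul_single, mul_one]
        _ = _ := by rw [e1, e2]
  have hcom : MonoidAlgebra.single (tor i j h b) (1 : k) * A = A * MonoidAlgebra.single (tor i j h b) 1 := by
    rw [hA, single_mul_gs, gs_mul_single]
    exact gs_congr (Equiv.mulLeft₀ (b * b) (mul_ne_zero hb hb)) fun a => (tor_mul_el h hb a).symm
  rw [hY, Finset.mul_sum]
  refine Fintype.sum_equiv (Equiv.mulRight₀ b⁻¹ (inv_ne_zero hb)) _ _ fun c => ?_
  show _ = if c * b⁻¹ = 0 then 0 else A * MonoidAlgebra.single (mon i j h (c * b⁻¹)) 1 * A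
  by_cases hc : c = 0
  · simp [hc]
  · rw [if_neg hc, if_neg (mul_ne_zero hc (inv_ne_zero hb)), ← mul_assoc, ← mul_assoc, hcom,
      mul_assoc A, MonoidAlgebra.single_mul_single, mul_one, tor_mul_mon h hb hc]

theorem triple_invariant (p : ℕ) [Fact p.Prime] [CharP F p] [CharP k p] (h : i ≠ j) (hj : j.val = i.val + 1) {b : F} (hb : b ≠ 0) :
    MonoidAlgebra.single (tor i j h b) (1 : k) * triple k (unitri (n := n) (F := F)) (revElt n F) =
      triple k (unitri (n := n) (F := F)) (revElt n F) := by
  have hlt : i < j := Fin.lt_def.2 (by omega)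
  rw [triple, gs_lower (n := n) (F := F) (k := k), lower_split (k := k) h hlt]
  conv_lhs => arg 2; arg 1; arg 1; rw [unitri_split_right (k := k) h hlt]
  conv_lhs => arg 2; arg 2; rw [unitri_split_left (k := k) h hlt]
  conv_rhs => arg 1; arg 1; rw [unitri_split_right (k := k) h hlt]
  conv_rhs => arg 2; rw [unitri_split_left (k := k) h hlt]
  set A := gs k (fun a : F => el i j h a)
  set P := gs k (fun u : UpZero (F := F) i j => u.1)
  set C := gs k (fun c : F => el j i h.symm c)
  set L := gs k (fun u : LowZero (F := F) i j => u.1)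
  have e : P * A * (C * L) * (A * P) = P * (A * C * A) * (L * P) := by
    have := el_comm_lowZero (n := n) (F := F) (k := k) h hj
    calc P * A * (C * L) * (A * P) = P * A * C * (L * A) * P := by simp only [mul_assoc]
      _ = P * A * C * (A * L) * P := by rw [this]
      _ = _ := by simp only [mul_assoc]
  rw [e]
  calc MonoidAlgebra.single (tor i j h b) (1 : k) * (P * (A * C * A) * (L * P))
      = MonoidAlgebra.single (tor i j h b) (1 : k) * P * (A * C * A) * (L * P) := by
        simp only [mul_assoc]
    _ = P * MonoidAlgebra.single (tor i j h b) (1 : k) * (A * C * A) * (L * P) := by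
        rw [tor_comm_upZero h hb]
    _ = P * (MonoidAlgebra.single (tor i j h b) (1 : k) * (A * C * A)) * (L * P) := by
        simp only [mul_assoc]
    _ = _ := by rw [rankOne_invariant p h hb]

theorem diag_le_closure_invariant (p : ℕ) [Fact p.Prime] [CharP F p] [CharP k p] :
    diag (n := n) (F := F) ≤ Subgroup.closure
      {g | g ∈ diag ∧ MonoidAlgebra.single g (1 : k) * triple k (unitri (n := n) (F := F)) (revElt n F) =
        triple k (unitri (n := n) (F := F)) (revElt n F)} :=
  diag_le_closure.trans (Subgroup.closure_mono fun g hg => by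
    obtain ⟨i, j, h, b, hj, hb, rfl⟩ := hg
    exact ⟨tor_mem_diag h hb, triple_invariant p h hj hb⟩)

end Triple

end CfsgLib.Block.DefiningChar.SL
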